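import Groth.Agent.Sga7.H731.LevelTwoC

/-!
# The torsion of a commutative group scheme and the cohomology of a curve in it
-/

set_option autoImplicit false
set_option backward.isDefEq.respectTransparency false
universe u
open CategoryTheory CategoryTheory.Limits AlgebraicGeometry MonObj
open scoped Groth.Agent.Etcore.EtInst

namespace Groth.Agent.Sga7.H731.LevelTwoD

open Groth.Agent.Sga7.H731.LevelTwo Groth.Agent.Sga7.H731.LevelTwoC Groth.Agent.Etcore.HC

variable {K : Type u} [Field K] {Ω : Type u} [Field Ω] [Algebra K Ω]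

/-- Let `A` be a commutative group scheme over `K` with étale surjective multiplication by `n`, and `f : C ⟶ Spec K`,
`i : C ⟶ A` such that the inverse image of `C_Ω` by multiplication by `n` is connected. If
`(cohAct τ - 1) (cohAct σ - 1) = 0` on `H¹(C_Ω, ZMod n)`, then `(σ - 1) (τ - 1)` kills the `n`-torsion points. -/
theorem levelTwo_of_cohAct {A : Over (Spec (CommRingCat.of K))} [GrpObj A] [IsCommMonObj A] (n : ℕ) [NeZero n]
    [IsSepClosed Ω] [Etale (𝟙 A ^ n : A ⟶ A).left] [Surjective (𝟙 A ^ n : A ⟶ A).left]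
    {C : Scheme.{u}} {f : C ⟶ Spec (CommRingCat.of K)} (i : Over.mk f ⟶ A)
    (hcon : ConnectedSpace ↥(pullback (pullback.fst f (Spec.map (CommRingCat.ofHom (algebraMap K Ω))) ≫ i.left)
      (𝟙 A ^ n : A ⟶ A).left))
    (σ τ : Ω ≃ₐ[K] Ω)
    (H : (SGA7.cohAct Ω f τ (ZMod n) 1 - 1) * (SGA7.cohAct Ω f σ (ZMod n) 1 - 1) = 0)
    (x : SGA7.Pts Ω A) (hx : x ^ n = 1) : SGA7.dev σ (SGA7.dev τ x) = 1 :=
  haveI : ConnectedSpace ↥(pullback (ca Ω i).left (𝟙 A ^ n : A ⟶ A).left) := hcon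
  levelTwo_of_HC n i σ τ (HC_rel f σ τ (ZMod n) 1 H) x hx

end Groth.Agent.Sga7.H731.LevelTwoD
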