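import Groth.Agent.Sga7.H731.CovCls

/-!
# The class of a character of a Galois covering, with constant coefficients

`cc 𝒢 χ : H¹(X, M)` for `χ : G → M` additive; `cc_add`, `eq_zero_of_cc_eq_zero`, `HC_cc`.
-/

set_option autoImplicit false
universe v u
open CategoryTheory CategoryTheory.Limits AlgebraicGeometry Opposite
open scoped Groth.Agent.Etcore.EtInst
open Groth.Agent.Etcore.EtInst Groth.Agent.Etcore.PullCoh Groth.Agent.Etcore.HpullCalc
open Groth.Agent.Etcore.HC
open Groth.Agent.Sga4B.ConstLC Groth.Agent.Sga7.H731.ClsPull Groth.Agent.Sga7.H731.CovCls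

namespace Groth.Agent.Sga7.H731.CovClsC

variable {X Y : Scheme.{u}} (M : Type) [AddCommGroup M]

theorem constIso_cst (X : Scheme.{u}) (m : ULift.{u + 1} M) :
    (constIso X M).hom.hom.app (op (EtCoh.top X)) (cst X M m) =
      constSec (ULift.{u + 1} M) (EtCoh.top X) m := by
  have h1 : (EtCore.constAdj X).unit.app (AddCommGrpCat.of (ULift.{u + 1} M)) =
      (toSheafify X.smallEtaleTopology
        ((Functor.const _).obj (AddCommGrpCat.of (ULift.{u + 1} M)))).app (op (EtCoh.top X)) := by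
    simp [constantSheafAdj, constantPresheafAdj]
  have h2 := congrArg (fun t => t.app (op (EtCoh.top X)))
    (toSheafify_constToLC X (ULift.{u + 1} M))
  have h3 := ConcreteCategory.congr_hom h2 m
  unfold cst
  rw [h1]
  exact h3

theorem res_constSec {U V : X.Etale} (r : V ⟶ U) (m : ULift.{u + 1} M) :
    (LC X (ULift.{u + 1} M)).obj.map r.op (constSec (ULift.{u + 1} M) U m) =
      constSec (ULift.{u + 1} M) V m := rfl

theorem pullConst_LCpull (f : Y ⟶ X) :
    (EtCore.pullConst f M).hom ≫ (constIso Y M).hom =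
      (EtCoh.pull f).map (constIso X M).hom ≫ LCpull f (ULift.{u + 1} M) := by
  refine pull_const_hom_ext f _ _ fun m => ?_
  rw [map_comp_app, map_comp_app, eta_map, pullConst_unit, map_res, constIso_cst, constIso_cst,
    res_constSec]
  have h1 := adjs_apply f (LCpull f (ULift.{u + 1} M)) (EtCoh.top X)
    (constSec (ULift.{u + 1} M) (EtCoh.top X) m)
  rw [← h1]
  have h2 : adjs f (LCpull f (ULift.{u + 1} M)) (EtCoh.top X) =
      ((LCres f (ULift.{u + 1} M)).hom.app (op (EtCoh.top X))).hom := by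
    unfold adjs LCpull
    rw [Equiv.apply_symm_apply]
  rw [h2]
  rfl

theorem HC_constIso (f : Y ⟶ X) (n : ℕ) (x : HH X (LC X (ULift.{u + 1} M)) n) :
    HC M f n (HHmap (constIso X M).inv n x) =
      HHmap (constIso Y M).inv n (hpl f (LCpull f (ULift.{u + 1} M)) n x) := by
  have e : (EtCoh.pull f).map (constIso X M).inv ≫ (EtCore.pullConst f M).hom =
      LCpull f (ULift.{u + 1} M) ≫ (constIso Y M).inv := by
    rw [← cancel_mono (constIso Y M).hom, Category.assoc, Category.assoc, pullConst_LCpull,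
      ← Category.assoc, ← Functor.map_comp, Iso.inv_hom_id, CategoryTheory.Functor.map_id, Category.id_comp,
      Iso.inv_hom_id, Category.comp_id]
  unfold HC
  rw [hpl_map, map_hpl, e]

variable {M} {p : Y ⟶ X} {G : Type v} [Mul G] (𝒢 : Gal p G) [Etale p] [Surjective p]

/-- The class of a character, in `H¹(X, M)`. -/
noncomputable def cc {χ : G → M} (hχ : ∀ g h, χ (g * h) = χ g + χ h) : HH X (EtCoh.const X M) 1 :=
  HHmap (constIso X M).inv 1 (𝒢.gcl (A := ULift.{u + 1} M) (χ := fun g => ULift.up (χ g))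
    (fun g h => congrArg ULift.up (hχ g h)))

theorem cc_add {χ χ' : G → M} (hχ : ∀ g h, χ (g * h) = χ g + χ h)
    (hχ' : ∀ g h, χ' (g * h) = χ' g + χ' h) (hs : ∀ g h, (χ + χ') (g * h) = (χ + χ') g + (χ + χ') h) :
    cc 𝒢 hs = cc 𝒢 hχ + cc 𝒢 hχ' := by
  unfold cc
  rw [← map_add]
  congr 1
  exact 𝒢.gcl_add (A := ULift.{u + 1} M) (χ := fun g => ULift.up (χ g)) (χ' := fun g => ULift.up (χ' g))
    (fun g h => congrArg ULift.up (hχ g h)) (fun g h => congrArg ULift.up (hχ' g h))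
    (fun g h => congrArg ULift.up (hs g h))

theorem eq_zero_of_cc_eq_zero [ConnectedSpace Y] {χ : G → M} (hχ : ∀ g h, χ (g * h) = χ g + χ h)
    (h0 : cc 𝒢 hχ = 0) (g : G) : χ g = 0 := by
  unfold cc at h0
  have h1 := (HHmap_bijective (constIso X M).inv 1).1 (h0.trans (map_zero _).symm)
  exact congrArg ULift.down (𝒢.eq_zero_of_gcl_eq_zero _ h1 g)

variable {X' Y' : Scheme.{u}} {p' : Y' ⟶ X'} {G' : Type v} [Mul G'] (𝒢' : Gal p' G')
  [Etale p'] [Surjective p']

/-- **Functoriality.** -/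
theorem HC_cc (φ : X' ⟶ X) (ψ : Y' ⟶ Y) (w : ψ ≫ p = p' ≫ φ) (u : G' → G)
    (hu : ∀ g', 𝒢'.act g' ≫ ψ = ψ ≫ 𝒢.act (u g')) {χ : G → M}
    (hχ : ∀ g h, χ (g * h) = χ g + χ h) {χ' : G' → M} (hχ' : ∀ g h, χ' (g * h) = χ' g + χ' h)
    (hc : ∀ g', χ' g' = χ (u g')) :
    HC M φ 1 (cc 𝒢 hχ) = cc 𝒢' hχ' := by
  unfold cc
  rw [HC_constIso]
  congr 1
  exact 𝒢.hpl_gcl 𝒢' φ ψ w u hu _ _ (fun g' => congrArg ULift.up (hc g'))

end Groth.Agent.Sga7.H731.CovClsC
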