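import Groth.Agent.Sga7.H731.AbTor
import Groth.Agent.Sga7.H731.CovClsC

/-!
# The covering `[n]⁻¹ X ⟶ X` for a morphism `X ⟶ A` to an abelian variety, `X` a scheme over a separably closed field

`abGal`: it is Galois with group the `n`-torsion points.
-/

set_option autoImplicit false
set_option backward.isDefEq.respectTransparency false
universe u
open CategoryTheory CategoryTheory.Limits MonoidalCategory CartesianMonoidalCategory AlgebraicGeometry MonObj

namespace Groth.Agent.Sga7.H731.AbCover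

open Groth.Agent.Sga7.H731.AbTor Groth.Agent.Sga7.H731.CovCls

variable {K : Type u} [Field K] {Ω : Type u} [Field Ω] [Algebra K Ω]
  {A : Over (Spec (CommRingCat.of K))} [GrpObj A] [IsCommMonObj A] (n : ℕ)

variable {X : Over (Spec (CommRingCat.of K))} (a : X ⟶ A) (s : X ⟶ SGA7.pt Ω)

/-- The cover. -/
noncomputable abbrev Cov : Over (Spec (CommRingCat.of K)) :=
  Over.mk (pullback.fst a.left (𝟙 A ^ n : A ⟶ A).left ≫ X.hom)

/-- The covering morphism. -/
noncomputable abbrev cp : Cov n a ⟶ X := Over.homMk (pullback.fst a.left (𝟙 A ^ n : A ⟶ A).left) rfl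

/-- The second projection. -/
noncomputable abbrev cb : Cov n a ⟶ A :=
  Over.homMk (pullback.snd a.left (𝟙 A ^ n : A ⟶ A).left) (by
    have h2 : (𝟙 A ^ n : A ⟶ A).left ≫ A.hom = A.hom := Over.w _
    change pullback.snd _ _ ≫ A.hom = pullback.fst _ _ ≫ X.hom
    rw [← h2, ← pullback.condition_assoc, Over.w])

omit [IsCommMonObj A] in
theorem cb_pow [IsCommMonObj A] : cb n a ^ n = cp n a ≫ a := by
  rw [← comp_mulN]
  apply Over.OverMorphism.ext
  exact pullback.condition.symm

variable {n a}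

/-- morphisms to the cover -/
noncomputable def toCov {T : Over (Spec (CommRingCat.of K))} (q : T ⟶ X) (b : T ⟶ A) (h : b ^ n = q ≫ a) :
    T ⟶ Cov n a :=
  Over.homMk (pullback.lift q.left b.left (by
    rw [← comp_mulN] at h
    exact congrArg (fun r => r.left) h.symm)) (by
    change pullback.lift _ _ _ ≫ pullback.fst _ _ ≫ X.hom = T.hom
    rw [pullback.lift_fst_assoc, Over.w])

omit [IsCommMonObj A] in
theorem toCov_cp {T : Over (Spec (CommRingCat.of K))} (q : T ⟶ X) (b : T ⟶ A) (h : b ^ n = q ≫ a) :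
    toCov q b h ≫ cp n a = q := by
  apply Over.OverMorphism.ext
  exact pullback.lift_fst _ _ _

omit [IsCommMonObj A] in
theorem toCov_cb {T : Over (Spec (CommRingCat.of K))} (q : T ⟶ X) (b : T ⟶ A) (h : b ^ n = q ≫ a) :
    toCov q b h ≫ cb n a = b := by
  apply Over.OverMorphism.ext
  exact pullback.lift_snd _ _ _

omit [IsCommMonObj A] in
theorem cov_ext {T : Over (Spec (CommRingCat.of K))} {f g : T ⟶ Cov n a}
    (h1 : f ≫ cp n a = g ≫ cp n a) (h2 : f ≫ cb n a = g ≫ cb n a) : f = g := by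
  apply Over.OverMorphism.ext
  apply pullback.hom_ext
  · exact congrArg (fun r => r.left) h1
  · exact congrArg (fun r => r.left) h2

variable (n a)

/-- The action. -/
noncomputable def cact (g : Tor Ω A n) : Cov n a ⟶ Cov n a :=
  toCov (cp n a) (cb n a * (cp n a ≫ s ≫ g.1)) (by
    rw [mul_pow, cb_pow, ← MonObj.comp_pow, ← MonObj.comp_pow, (mem_Tor Ω A n g.1).1 g.2,
      MonObj.comp_one, MonObj.comp_one, _root_.mul_one])

theorem cact_cp (g : Tor Ω A n) : cact n a s g ≫ cp n a = cp n a := toCov_cp _ _ _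

theorem cact_cb (g : Tor Ω A n) : cact n a s g ≫ cb n a = cb n a * (cp n a ≫ s ≫ g.1) := toCov_cb _ _ _

/-- The difference is torsion. -/
theorem diff_pow {T : Over (Spec (CommRingCat.of K))} (y y' : T ⟶ Cov n a) (h : y ≫ cp n a = y' ≫ cp n a) :
    ((y' ≫ cb n a) * (y ≫ cb n a)⁻¹) ^ n = 1 := by
  rw [mul_pow, inv_pow, ← MonObj.comp_pow, ← MonObj.comp_pow, cb_pow, ← Category.assoc, ← Category.assoc, h,
    mul_inv_cancel]

/-- Scheme-level action. -/
theorem cact_left (g : Tor Ω A n) :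
    (cact n a s g).left ≫ pullback.fst a.left (𝟙 A ^ n : A ⟶ A).left =
      pullback.fst a.left (𝟙 A ^ n : A ⟶ A).left :=
  congrArg (fun r => r.left) (cact_cp n a s g)

variable [IsSepClosed Ω] [Etale (𝟙 A ^ n : A ⟶ A).left]

omit [IsSepClosed Ω] [Etale (𝟙 A ^ n : A ⟶ A).left] in
theorem exists_common {E U : Scheme.{u}} (F : E ⟶ U) (y y' : E) (h : F y = F y') :
    ∃ (L : Type u) (_ : Field L) (t1 t2 : Spec (CommRingCat.of L) ⟶ E), t1 ≫ F = t2 ≫ F ∧
      t1 (IsLocalRing.closedPoint L) = y ∧ t2 (IsLocalRing.closedPoint L) = y' := by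
  obtain ⟨z, hz, hz'⟩ := Scheme.Pullback.exists_preimage_pullback y y' h
  refine ⟨(pullback F F).residueField z, inferInstance, (pullback F F).fromSpecResidueField z ≫ pullback.fst F F,
    (pullback F F).fromSpecResidueField z ≫ pullback.snd F F, ?_, ?_, ?_⟩
  · simp only [Category.assoc, pullback.condition]
  · rw [← hz]
    change pullback.fst F F ((pullback F F).fromSpecResidueField z _) = _
    rw [Scheme.fromSpecResidueField_apply]
  · rw [← hz']
    change pullback.snd F F ((pullback F F).fromSpecResidueField z _) = _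
    rw [Scheme.fromSpecResidueField_apply]

/-- Transitivity. -/
theorem trans_aux {U : Scheme.{u}} (h : U ⟶ X.left)
    (y y' : ↥(pullback h (pullback.fst a.left (𝟙 A ^ n : A ⟶ A).left)))
    (hy : pullback.fst h (pullback.fst a.left (𝟙 A ^ n : A ⟶ A).left) y =
      pullback.fst h (pullback.fst a.left (𝟙 A ^ n : A ⟶ A).left) y') :
    ∃ g : Tor Ω A n, actU (pullback.fst a.left (𝟙 A ^ n : A ⟶ A).left) (cact n a s g).left
      (cact_left n a s g) h y = y' := by
  let p := pullback.fst a.left (𝟙 A ^ n : A ⟶ A).left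
  let F := pullback.fst h p
  obtain ⟨L, _, t1, t2, ht, h1, h2⟩ := exists_common F y y' hy
  let T : Over (Spec (CommRingCat.of K)) := Over.mk (t1 ≫ F ≫ h ≫ X.hom)
  have hF : F ≫ h = pullback.snd h p ≫ p := pullback.condition
  let y1 : T ⟶ Cov n a := Over.homMk (t1 ≫ pullback.snd h p) (by
    change (t1 ≫ pullback.snd h p) ≫ p ≫ X.hom = t1 ≫ F ≫ h ≫ X.hom
    rw [reassoc_of% hF, Category.assoc])
  let y2 : T ⟶ Cov n a := Over.homMk (t2 ≫ pullback.snd h p) (by
    change (t2 ≫ pullback.snd h p) ≫ p ≫ X.hom = t1 ≫ F ≫ h ≫ X.hom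
    rw [reassoc_of% ht, reassoc_of% hF, Category.assoc])
  have h12 : y1 ≫ cp n a = y2 ≫ cp n a := by
    apply Over.OverMorphism.ext
    change (t1 ≫ pullback.snd h p) ≫ p = (t2 ≫ pullback.snd h p) ≫ p
    rw [Category.assoc, Category.assoc, ← hF, reassoc_of% ht]
  obtain ⟨N, x, hzN, hx⟩ := tor_nhd (Ω := Ω) (y1 ≫ cp n a ≫ s) _ (diff_pow n a y1 y2 h12)
    (IsLocalRing.closedPoint L : ↥(Spec (CommRingCat.of L)))
  have hN : N = ⊤ := by
    apply TopologicalSpace.Opens.ext
    ext z
    have : z = (IsLocalRing.closedPoint L : ↥(Spec (CommRingCat.of L))) :=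
      Subsingleton.elim (α := ↥(Spec (CommRingCat.of L))) _ _
    rw [this]
    simpa using hzN
  have hx2 : (y2 ≫ cb n a) * (y1 ≫ cb n a)⁻¹ = (y1 ≫ cp n a ≫ s) ≫ x.1 := by
    apply Over.OverMorphism.ext
    have : IsIso N.ι := by
      rw [hN]
      exact inferInstanceAs (IsIso T.left.topIso.hom)
    rw [← cancel_epi N.ι, hx]
    rfl
  have hy2 : y2 = y1 ≫ cact n a s x := by
    refine cov_ext ?_ ?_
    · rw [Category.assoc, cact_cp, h12]
    · rw [Category.assoc, cact_cb, MonObj.comp_mul]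
      rw [mul_inv_eq_iff_eq_mul] at hx2
      rw [hx2]
      simp only [Category.assoc]
      rw [_root_.mul_comm]
  refine ⟨x, ?_⟩
  have h3 : t1 ≫ actU p (cact n a s x).left (cact_left n a s x) h = t2 := by
    apply pullback.hom_ext
    · rw [Category.assoc, actU_fst, ht]
    · rw [Category.assoc, actU_snd]
      have := congrArg (fun r => r.left) hy2
      simpa [y1, y2] using this.symm
  rw [← h1, ← h2, ← h3]
  rfl

theorem triv_aux : ∃ c : ↥(pullback (pullback.fst a.left (𝟙 A ^ n : A ⟶ A).left)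
      (pullback.fst a.left (𝟙 A ^ n : A ⟶ A).left)) → Tor Ω A n, IsLocallyConstant c ∧
    ∀ (g : Tor Ω A n) (z : ↥(pullback (pullback.fst a.left (𝟙 A ^ n : A ⟶ A).left)
      (pullback.fst a.left (𝟙 A ^ n : A ⟶ A).left))),
      c (actU (pullback.fst a.left (𝟙 A ^ n : A ⟶ A).left) (cact n a s g).left (cact_left n a s g)
        (pullback.fst a.left (𝟙 A ^ n : A ⟶ A).left) z) = g * c z := by
  let p := pullback.fst a.left (𝟙 A ^ n : A ⟶ A).left
  let Z : Over (Spec (CommRingCat.of K)) := Over.mk (pullback.fst p p ≫ p ≫ X.hom)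
  let y1 : Z ⟶ Cov n a := Over.homMk (pullback.fst p p) rfl
  let y2 : Z ⟶ Cov n a := Over.homMk (pullback.snd p p) (by
    change pullback.snd p p ≫ p ≫ X.hom = pullback.fst p p ≫ p ≫ X.hom
    rw [← pullback.condition_assoc])
  have h12 : y1 ≫ cp n a = y2 ≫ cp n a := by
    apply Over.OverMorphism.ext
    exact pullback.condition
  obtain ⟨c, hc, hN, hf⟩ := exists_cfun (y1 ≫ cp n a ≫ s) _ (diff_pow n a y1 y2 h12)
  refine ⟨c, hc, fun g z => ?_⟩
  obtain ⟨N, hzN, hN2⟩ := hN z
  let T' : Over (Spec (CommRingCat.of K)) := Over.mk (N.ι ≫ Z.hom)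
  let j : T' ⟶ Z := Over.homMk N.ι
  have hj : j ≫ ((y2 ≫ cb n a) * (y1 ≫ cb n a)⁻¹) = j ≫ (y1 ≫ cp n a ≫ s) ≫ (c z).1 := by
    apply Over.OverMorphism.ext
    exact hN2
  let m : Z ⟶ Z := Over.homMk (actU p (cact n a s g).left (cact_left n a s g) p) (by
    have := actU_fst p (cact n a s g).left (cact_left n a s g) p
    exact congrArg (fun r => r ≫ p ≫ X.hom) this)
  have hm1 : m ≫ y1 = y1 := by
    apply Over.OverMorphism.ext
    exact actU_fst p (cact n a s g).left (cact_left n a s g) p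
  have hm2 : m ≫ y2 = y2 ≫ cact n a s g := by
    apply Over.OverMorphism.ext
    exact actU_snd p (cact n a s g).left (cact_left n a s g) p
  have h4 := hf T' (j ≫ m) (g * c z) (by
    have e1 : m ≫ ((y2 ≫ cb n a) * (y1 ≫ cb n a)⁻¹) =
        ((y2 ≫ cb n a) * (y1 ≫ cb n a)⁻¹) * ((y1 ≫ cp n a ≫ s) ≫ g.1) := by
      rw [MonObj.comp_mul, GrpObj.comp_inv, ← Category.assoc, ← Category.assoc m y1, hm1, hm2, Category.assoc,
        cact_cb, MonObj.comp_mul, ← Category.assoc y2 (cp n a), ← h12]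
      simp only [Category.assoc]
      rw [_root_.mul_assoc, _root_.mul_assoc, _root_.mul_comm (y1 ≫ cp n a ≫ s ≫ g.1)]
    rw [Category.assoc, e1, MonObj.comp_mul, hj, Category.assoc j m, ← Category.assoc m (y1 ≫ _),
      ← Category.assoc m y1, hm1, ← MonObj.comp_mul, ← MonObj.comp_mul, _root_.mul_comm (c z).1]
    rfl) ⟨z, hzN⟩
  exact h4

/-- **The cover is Galois** with group the `n`-torsion points. -/
noncomputable def abGal : Gal (pullback.fst a.left (𝟙 A ^ n : A ⟶ A).left) (Tor Ω A n) where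
  act g := (cact n a s g).left
  act_p g := cact_left n a s g
  trans U y y' h := trans_aux n a s U.hom y y' h
  triv := triv_aux n a s

end Groth.Agent.Sga7.H731.AbCover
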