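import Groth.Agent.Sga7.H731.EtSec
import Groth.Prelude.Def_SGA7IX

/-!
# Torsion morphisms to a group scheme with étale multiplication by `n`

`A` a commutative group scheme over a field `K`, `Ω ⊇ K` separably closed, `τ : T ⟶ Spec Ω` over `K` and
`δ : T ⟶ A` with `δ ^ n = 1`: `δ` is locally constant (`exists_cfun`).
-/

set_option autoImplicit false
set_option backward.isDefEq.respectTransparency false
universe u
open CategoryTheory CategoryTheory.Limits MonoidalCategory CartesianMonoidalCategory AlgebraicGeometry MonObj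

namespace Groth.Agent.Sga7.H731.AbTor

open Groth.Agent.Sga7.H731.EtSec

variable {K : Type u} [Field K] (Ω : Type u) [Field Ω] [Algebra K Ω]
  (A : Over (Spec (CommRingCat.of K))) [GrpObj A] [IsCommMonObj A] (n : ℕ)

/-- The `n`-torsion `Ω`-points, as a subgroup. -/
noncomputable abbrev Tor : Subgroup (SGA7.Pts Ω A) := (powMonoidHom n : SGA7.Pts Ω A →* SGA7.Pts Ω A).ker

theorem mem_Tor (x : SGA7.Pts Ω A) : x ∈ Tor Ω A n ↔ x ^ n = 1 := Iff.rfl

omit [IsCommMonObj A] in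
theorem comp_mulN {T : Over (Spec (CommRingCat.of K))} (x : T ⟶ A) : x ≫ (𝟙 A ^ n) = x ^ n := by
  rw [MonObj.comp_pow, Category.comp_id]

/-- the kernel of multiplication by `n` -/
noncomputable abbrev ker : Scheme.{u} := pullback (𝟙 A ^ n : A ⟶ A).left (η[A]).left

/-- its structure morphism -/
noncomputable abbrev kerπ : ker A n ⟶ Spec (CommRingCat.of K) := pullback.snd _ _

variable {A n}

theorem one_left {T : Over (Spec (CommRingCat.of K))} : (1 : T ⟶ A).left = T.hom ≫ (η[A]).left := by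
  rw [Hom.one_def, Over.comp_left]
  rfl

theorem torsion_left {T : Over (Spec (CommRingCat.of K))} (δ : T ⟶ A) (hδ : δ ^ n = 1) :
    δ.left ≫ (𝟙 A ^ n : A ⟶ A).left = T.hom ≫ (η[A]).left := by
  rw [← Over.comp_left, comp_mulN, hδ, one_left]

/-- the morphism to the kernel -/
noncomputable def toKer {T : Over (Spec (CommRingCat.of K))} (δ : T ⟶ A) (hδ : δ ^ n = 1) :
    T.left ⟶ ker A n := pullback.lift δ.left T.hom (torsion_left δ hδ)

theorem toKer_fst {T : Over (Spec (CommRingCat.of K))} (δ : T ⟶ A) (hδ : δ ^ n = 1) :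
    toKer δ hδ ≫ pullback.fst _ _ = δ.left := pullback.lift_fst _ _ _

theorem toKer_π {T : Over (Spec (CommRingCat.of K))} (δ : T ⟶ A) (hδ : δ ^ n = 1) :
    toKer δ hδ ≫ kerπ A n = T.hom := pullback.lift_snd _ _ _

omit [IsCommMonObj A] in
theorem toKer_ext {T : Scheme.{u}} (x y : T ⟶ ker A n)
    (h : x ≫ pullback.fst _ _ = y ≫ pullback.fst _ _) : x = y := by
  apply pullback.hom_ext h
  have h1 : (η[A]).left ≫ A.hom = 𝟙 _ := Over.w (η[A])
  have hx : x ≫ kerπ A n = x ≫ pullback.fst _ _ ≫ A.hom := by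
    have h2 : (𝟙 A ^ n : A ⟶ A).left ≫ A.hom = A.hom := Over.w _
    conv_rhs => rw [← h2]
    rw [pullback.condition_assoc, h1, Category.comp_id]
  have hy : y ≫ kerπ A n = y ≫ pullback.fst _ _ ≫ A.hom := by
    have h2 : (𝟙 A ^ n : A ⟶ A).left ≫ A.hom = A.hom := Over.w _
    conv_rhs => rw [← h2]
    rw [pullback.condition_assoc, h1, Category.comp_id]
  rw [hx, hy, reassoc_of% h]

variable {Ω}

/-- uniqueness -/
theorem tor_unique [Etale (𝟙 A ^ n : A ⟶ A).left] {T : Over (Spec (CommRingCat.of K))}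
    [Nonempty T.left] (τ : T ⟶ SGA7.pt Ω) (x x' : Tor Ω A n) (h : τ ≫ x.1 = τ ≫ x'.1) : x = x' := by
  have h1 : toKer x.1 x.2 = toKer x'.1 x'.2 := by
    refine pt_unique (Spec.map (CommRingCat.ofHom (algebraMap K Ω))) (kerπ A n) τ.left _ _
      (toKer_π _ _) (toKer_π _ _) ?_
    apply toKer_ext
    rw [Category.assoc, Category.assoc, toKer_fst, toKer_fst, ← Over.comp_left, h, Over.comp_left]
  apply Subtype.ext
  apply Over.OverMorphism.ext
  rw [← toKer_fst x.1 x.2, ← toKer_fst x'.1 x'.2]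
  exact congrArg (fun r => r ≫ pullback.fst _ _) h1

theorem tor_nhd [IsSepClosed Ω] [Etale (𝟙 A ^ n : A ⟶ A).left] {T : Over (Spec (CommRingCat.of K))}
    (τ : T ⟶ SGA7.pt Ω) (δ : T ⟶ A) (hδ : δ ^ n = 1) (z : T.left) :
    ∃ (N : T.left.Opens) (x : Tor Ω A n), z ∈ N ∧ N.ι ≫ δ.left = N.ι ≫ τ.left ≫ x.1.left := by
  obtain ⟨N, x, hz, hx, hN⟩ := exists_nhd (Spec.map (CommRingCat.ofHom (algebraMap K Ω))) (kerπ A n)
    τ.left (toKer δ hδ) (by rw [toKer_π]; exact (Over.w τ).symm) z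
  let y : SGA7.Pts Ω A := Over.homMk (x ≫ pullback.fst _ _) (by
    have h1 : (η[A]).left ≫ A.hom = 𝟙 _ := Over.w (η[A])
    have h2 : (𝟙 A ^ n : A ⟶ A).left ≫ A.hom = A.hom := Over.w _
    change (x ≫ pullback.fst _ _) ≫ A.hom = Spec.map (CommRingCat.ofHom (algebraMap K Ω))
    rw [← h2, Category.assoc, pullback.condition_assoc, h1, Category.comp_id, hx])
  have hy : y ^ n = 1 := by
    rw [← comp_mulN]
    apply Over.OverMorphism.ext
    rw [Over.comp_left, one_left]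
    change (x ≫ pullback.fst _ _) ≫ (𝟙 A ^ n : A ⟶ A).left = _
    rw [Category.assoc, pullback.condition, reassoc_of% hx]
    rfl
  refine ⟨N, ⟨y, hy⟩, hz, ?_⟩
  have h3 := congrArg (fun r => r ≫ pullback.fst _ _) hN
  simp only [Category.assoc] at h3
  rw [toKer_fst] at h3
  exact h3

/-- a torsion morphism over an `Ω`-scheme is locally constant -/
theorem exists_cfun [IsSepClosed Ω] [Etale (𝟙 A ^ n : A ⟶ A).left] {T : Over (Spec (CommRingCat.of K))}
    (τ : T ⟶ SGA7.pt Ω) (δ : T ⟶ A) (hδ : δ ^ n = 1) :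
    ∃ c : T.left → Tor Ω A n, IsLocallyConstant c ∧
      (∀ z, ∃ N : T.left.Opens, z ∈ N ∧ N.ι ≫ δ.left = N.ι ≫ τ.left ≫ (c z).1.left) ∧
      ∀ (T' : Over (Spec (CommRingCat.of K))) (f : T' ⟶ T) (x : Tor Ω A n), f ≫ δ = f ≫ τ ≫ x.1 →
        ∀ z' : T'.left, c (f.left z') = x := by
  choose N x hz hN using tor_nhd τ δ hδ
  have key : ∀ (T' : Over (Spec (CommRingCat.of K))) (f : T' ⟶ T) (y : Tor Ω A n),
      f ≫ δ = f ≫ τ ≫ y.1 → ∀ z' : T'.left, x (f.left z') = y := by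
    intro T' f y h z'
    let M : T'.left.Opens := f.left ⁻¹ᵁ N (f.left z')
    have hM : z' ∈ M := hz (f.left z')
    let T'' : Over (Spec (CommRingCat.of K)) := Over.mk (M.ι ≫ T'.hom)
    let j : T'' ⟶ T' := Over.homMk M.ι
    have : Nonempty T''.left := ⟨⟨z', hM⟩⟩
    refine tor_unique (T := T'') (j ≫ f ≫ τ) _ _ ?_
    have h1 : j ≫ f ≫ δ = (j ≫ f ≫ τ) ≫ (x (f.left z')).1 := by
      apply Over.OverMorphism.ext
      have e1 : M.ι ≫ f.left = IsOpenImmersion.lift (N (f.left z')).ι (M.ι ≫ f.left) (by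
          rintro _ ⟨a, rfl⟩
          rw [Scheme.Opens.range_ι]
          exact a.2) ≫ (N (f.left z')).ι :=
        (IsOpenImmersion.lift_fac _ _ _).symm
      simp only [Over.comp_left, Category.assoc]
      change M.ι ≫ f.left ≫ δ.left = M.ι ≫ f.left ≫ τ.left ≫ _
      rw [reassoc_of% e1, hN, ← reassoc_of% e1]
    rw [← h1, h]
    simp only [Category.assoc]
  refine ⟨x, ?_, fun z => ⟨N z, hz z, hN z⟩, key⟩
  refine (IsLocallyConstant.iff_exists_open x).2 fun z => ⟨N z, (N z).2, hz z, fun z' hz' => ?_⟩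
  exact key (Over.mk ((N z).ι ≫ T.hom)) (Over.homMk (N z).ι) (x z)
    (by apply Over.OverMorphism.ext; exact hN z) ⟨z', hz'⟩

end Groth.Agent.Sga7.H731.AbTor
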