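import Mathlib.Algebra.Module.CharacterModule
import Mathlib.Topology.Instances.AddCircle.Defs
import Mathlib.Data.ZMod.QuotientGroup

/-!
# Characters with values in `ZMod n` separate the points of an abelian group killed by `n`
-/

set_option autoImplicit false

namespace Groth.Agent.Sga7.H731.CharSep

/-- the embedding of `ZMod n` into the circle -/
noncomputable def emb (n : ℕ) [NeZero n] : ZMod n →+ AddCircle (1 : ℚ) :=
  ZMod.lift n ⟨zmultiplesHom _ (((1 : ℚ) / (n : ℚ) : ℚ) : AddCircle (1 : ℚ)), by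
    rw [zmultiplesHom_apply, natCast_zsmul, ← AddCircle.coe_nsmul, nsmul_eq_mul,
      mul_div_cancel₀ _ (Nat.cast_ne_zero.2 (NeZero.ne n)), AddCircle.coe_period]⟩

theorem emb_natCast (n : ℕ) [NeZero n] (m : ℕ) :
    emb n (m : ZMod n) = ((((m : ℚ) / (n : ℚ)) * 1 : ℚ) : AddCircle (1 : ℚ)) := by
  have h : emb n (((m : ℤ) : ZMod n)) =
      (m : ℤ) • (((1 : ℚ) / (n : ℚ) : ℚ) : AddCircle (1 : ℚ)) := ZMod.lift_coe _ _ _
  rw [Int.cast_natCast] at h
  rw [h]
  rw [natCast_zsmul, ← AddCircle.coe_nsmul]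
  congr 1
  rw [nsmul_eq_mul]
  ring

theorem emb_injective (n : ℕ) [NeZero n] : Function.Injective (emb n) := by
  rw [injective_iff_map_eq_zero]
  intro a ha
  obtain ⟨m, rfl⟩ : ∃ m : ℕ, (m : ZMod n) = a := ⟨a.val, by simp⟩
  rw [emb_natCast] at ha
  have h1 : n ∣ m := by
    have h2 : (m • (((1 : ℚ) / (n : ℚ) : ℚ) : AddCircle (1 : ℚ))) = 0 := by
      rw [← AddCircle.coe_nsmul, nsmul_eq_mul]
      rw [← ha]
      congr 1
      ring
    rw [← addOrderOf_dvd_iff_nsmul_eq_zero,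
      AddCircle.addOrderOf_period_div (p := (1 : ℚ)) (Nat.pos_of_ne_zero (NeZero.ne n))] at h2
    exact h2
  exact (ZMod.natCast_eq_zero_iff m n).2 h1

theorem exists_char {G : Type*} [AddCommGroup G] (n : ℕ) [NeZero n] (hG : ∀ g : G, n • g = 0) (x : G)
    (hx : x ≠ 0) : ∃ χ : G →+ ZMod n, χ x ≠ 0 := by
  obtain ⟨c, hc⟩ := CharacterModule.exists_character_apply_ne_zero_of_ne_zero hx
  let c' : G →+ AddCircle (1 : ℚ) := c
  have hr : ∀ g, c' g ∈ (emb n).range := by
    intro g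
    have h1 : n • c' g = 0 := by rw [← map_nsmul, hG, map_zero]
    obtain ⟨m, -, hm⟩ := (AddCircle.nsmul_eq_zero_iff (p := (1 : ℚ)) (Nat.pos_of_ne_zero (NeZero.ne n))).1 h1
    exact ⟨m, by rw [emb_natCast, hm]⟩
  let e := AddMonoidHom.ofInjective (emb_injective n)
  refine ⟨e.symm.toAddMonoidHom.comp (c'.codRestrict _ hr), fun h => hc ?_⟩
  have h2 : c'.codRestrict _ hr x = 0 := by
    apply e.symm.injective
    rw [map_zero]
    exact h
  exact congrArg Subtype.val h2

theorem eq_one_of_char {G : Type*} [CommGroup G] (n : ℕ) [NeZero n] (hG : ∀ g : G, g ^ n = 1) (x : G)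
    (hx : ∀ χ : G → ZMod n, (∀ g h, χ (g * h) = χ g + χ h) → χ x = 0) : x = 1 := by
  by_contra hne
  obtain ⟨χ, hχ⟩ := exists_char (G := Additive G) n (fun g => congrArg Additive.ofMul (hG g.toMul))
    (Additive.ofMul x) (fun h => hne (by simpa using h))
  exact hχ (hx (fun g => χ (Additive.ofMul g)) (fun g h => χ.map_add _ _))

end Groth.Agent.Sga7.H731.CharSep
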