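import Groth.Agent.CurvesA.TorsorCls
import Groth.Agent.Etcore.HC

/-!
# The class of a torsor datum and pullback along a morphism of schemes

`hpl_cl`: for `f : X ⟶ Y`, `l : f⁻¹ G ⟶ K` and torsor data `D` on `Y`, `D'` on `X` related by a natural map
`P(U) → P'(U ×_Y X)` compatible with the difference maps, the generalized pullback `hpl f l 1` sends the class of
`D` to the class of `D'`.
-/

set_option autoImplicit false
universe u
open CategoryTheory CategoryTheory.Limits AlgebraicGeometry Opposite Abelian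
open scoped Groth.Agent.Etcore.EtInst
open Groth.Agent.Etcore.EtInst Groth.Agent.Etcore.PullCoh Groth.Agent.Etcore.HpullCalc
open Groth.Agent.Etcore.HC
open Groth.Agent.CurvesA.Torsor Groth.Agent.CurvesA.TorsorCls Groth.Agent.CurvesA.TorsorOps

namespace Groth.Agent.Sga7.H731.ClsPull

variable {X Y : Scheme.{u}}

/-- The class of a torsor datum, as an element of `HH`. -/
noncomputable def cl (F : EtCoh.Ab X) {P : X.Etaleᵒᵖ ⥤ Type (u + 1)} (D : DiffMap F.obj P)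
    (hP : supp P (EtCoh.top X) ∈ X.smallEtaleTopology (EtCoh.top X)) : HH X F 1 :=
  clsOf (EtCore.topIsTerminal X) F D hP

/-- the connecting map, as a map to `HH`. -/
noncomputable def dlH {S : ShortComplex (EtCoh.Ab X)} (hS : S.ShortExact)
    (q : S.X₃.obj.obj (op (EtCoh.top X))) : HH X S.X₁ 1 :=
  dl hS (EtCore.topIsTerminal X) q

theorem dlH_eq {S : ShortComplex (EtCoh.Ab X)} (hS : S.ShortExact) (q : S.X₃.obj.obj (op (EtCoh.top X))) :
    dlH hS q = Ext.comp ((H0 X S.X₃).symm q) hS.extClass (zero_add 1) := rfl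

/-- Pullback of connecting maps. -/
theorem hpl_dlH (f : X ⟶ Y) {S : ShortComplex (EtCoh.Ab Y)} (hS : S.ShortExact)
    {T : ShortComplex (EtCoh.Ab X)} (hT : T.ShortExact) (φ : S.map (EtCoh.pull f) ⟶ T)
    (q : S.X₃.obj.obj (op (EtCoh.top Y))) :
    hpl f φ.τ₁ 1 (dlH hS q) =
      dlH hT (φ.τ₃.hom.app (op (EtCoh.top X)) ((unitSec f S.X₃).hom q)) := by
  rw [dlH_eq, dlH_eq, hpl_extClass f hS hT φ (zero_add 1)]
  congr 1
  apply (H0 X T.X₃).injective
  rw [AddEquiv.apply_symm_apply, hpl_apply, H0_map, hp_zero, AddEquiv.apply_symm_apply]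
  rfl

theorem dlH_eq_iff {S : ShortComplex (EtCoh.Ab X)} (hS : S.ShortExact)
    (q q' : S.X₃.obj.obj (op (EtCoh.top X))) :
    dlH hS q = dlH hS q' ↔ ∃ s : S.X₂.obj.obj (op (EtCoh.top X)),
      S.g.hom.app (op (EtCoh.top X)) s = q - q' :=
  dl_eq_iff hS (EtCore.topIsTerminal X) q q'

theorem dlH_eq_cl {S : ShortComplex (EtCoh.Ab X)} (hS : S.ShortExact)
    {P : X.Etaleᵒᵖ ⥤ Type (u + 1)} {D : DiffMap S.X₁.obj P} (c : Chart S D)
    {q : S.X₃.obj.obj (op (EtCoh.top X))} (hq : IsSec (EtCore.topIsTerminal X) c q)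
    (hP : supp P (EtCoh.top X) ∈ X.smallEtaleTopology (EtCoh.top X)) : dlH hS q = cl S.X₁ D hP :=
  dl_eq_clsOf (EtCore.topIsTerminal X) hS c hq hP

/-- A natural map of torsor data preserves the class. -/
theorem cl_congr {F : EtCoh.Ab X} {P P' : X.Etaleᵒᵖ ⥤ Type (u + 1)} (D : DiffMap F.obj P)
    (D' : DiffMap F.obj P') (α : ∀ U : X.Etaleᵒᵖ, P'.obj U → P.obj U)
    (hα : ∀ {U V : X.Etaleᵒᵖ} (f : U ⟶ V) (p : P'.obj U), α V (P'.map f p) = P.map f (α U p))
    (hD : ∀ U p q, D'.d U p q = D.d U (α U p) (α U q))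
    (hP : supp P (EtCoh.top X) ∈ X.smallEtaleTopology (EtCoh.top X))
    (hP' : supp P' (EtCoh.top X) ∈ X.smallEtaleTopology (EtCoh.top X)) :
    cl F D' hP' = cl F D hP :=
  clsOf_congr (EtCore.topIsTerminal X) D D' α hα hD hP hP'

/-- Additivity of the class. -/
theorem cl_prodD {F : EtCoh.Ab X} {P₁ P₂ : X.Etaleᵒᵖ ⥤ Type (u + 1)}
    (D₁ : DiffMap F.obj P₁) (D₂ : DiffMap F.obj P₂)
    (hP₁ : supp P₁ (EtCoh.top X) ∈ X.smallEtaleTopology (EtCoh.top X))
    (hP₂ : supp P₂ (EtCoh.top X) ∈ X.smallEtaleTopology (EtCoh.top X)) :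
    cl F (prodD D₁ D₂) (supp_prodP P₁ P₂ hP₁ hP₂) = cl F D₁ hP₁ + cl F D₂ hP₂ :=
  clsOf_prodD (EtCore.topIsTerminal X) D₁ D₂ hP₁ hP₂

/-- The class vanishes iff the torsor datum is trivial. -/
theorem cl_eq_zero_iff {F : EtCoh.Ab X} {P : X.Etaleᵒᵖ ⥤ Type (u + 1)} (D : DiffMap F.obj P)
    (hP : supp P (EtCoh.top X) ∈ X.smallEtaleTopology (EtCoh.top X)) :
    cl F D hP = 0 ↔ ∃ h : ∀ U : X.Etaleᵒᵖ, P.obj U → F.obj.obj U,
      (∀ {U V : X.Etaleᵒᵖ} (f : U ⟶ V) (p : P.obj U), h V (P.map f p) = F.obj.map f (h U p)) ∧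
      ∀ (U : X.Etaleᵒᵖ) (p q : P.obj U), h U p - h U q = D.d U p q :=
  clsOf_eq_zero_iff (EtCore.topIsTerminal X) D hP

section push

variable (f : X ⟶ Y)

/-- the map on sections `G(U) → K(U ×_Y X)` given by `l : f⁻¹ G ⟶ K`. -/
noncomputable def adjs {G : EtCoh.Ab Y} {K : EtCoh.Ab X} (l : (EtCoh.pull f).obj G ⟶ K) (U : Y.Etale) :
    EtCoh.sect G U →+ EtCoh.sect K ((EtCoh.bc f).obj U) :=
  (((EtCoh.pullPushAdj f).homEquiv _ _ l).hom.app (op U)).hom

theorem adjs_apply {G : EtCoh.Ab Y} {K : EtCoh.Ab X} (l : (EtCoh.pull f).obj G ⟶ K) (U : Y.Etale)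
    (s : EtCoh.sect G U) :
    adjs f l U s = l.hom.app (op ((EtCoh.bc f).obj U)) (eta f G U s) := by
  have h : (EtCoh.pullPushAdj f).homEquiv _ _ l =
      (EtCoh.pullPushAdj f).unit.app G ≫ (EtCoh.push f).map l :=
    Adjunction.homEquiv_unit _ _ _ _
  unfold adjs
  rw [h]
  rfl

theorem adjs_res {G : EtCoh.Ab Y} {K : EtCoh.Ab X} (l : (EtCoh.pull f).obj G ⟶ K) {U V : Y.Etale}
    (r : V ⟶ U) (s : EtCoh.sect G U) :
    adjs f l V (G.obj.map r.op s) = K.obj.map ((EtCoh.bc f).map r).op (adjs f l U s) :=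
  ConcreteCategory.congr_hom (((EtCoh.pullPushAdj f).homEquiv _ _ l).hom.naturality r.op) s

theorem adjs_comm {G H : EtCoh.Ab Y} {K L : EtCoh.Ab X} (a : G ⟶ H) (b : K ⟶ L)
    (l : (EtCoh.pull f).obj G ⟶ K) (m : (EtCoh.pull f).obj H ⟶ L)
    (h : (EtCoh.pull f).map a ≫ m = l ≫ b) (U : Y.Etale) (s : EtCoh.sect G U) :
    adjs f m U (a.hom.app (op U) s) = b.hom.app (op ((EtCoh.bc f).obj U)) (adjs f l U s) := by
  rw [adjs_apply, adjs_apply, ← eta_map]
  exact congrArg (fun t => t.hom.app (op ((EtCoh.bc f).obj U)) (eta f G U s)) h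

/-- transport of sections over the terminal object -/
noncomputable def trT (K : EtCoh.Ab X) :
    EtCoh.sect K ((EtCoh.bc f).obj (EtCoh.top Y)) →+ EtCoh.sect K (EtCoh.top X) :=
  (K.obj.map (EtCore.bcTopIso f).inv.op).hom

theorem trT_nat {K L : EtCoh.Ab X} (b : K ⟶ L) (s : EtCoh.sect K ((EtCoh.bc f).obj (EtCoh.top Y))) :
    trT f L (b.hom.app _ s) = b.hom.app _ (trT f K s) :=
  (ConcreteCategory.congr_hom (b.hom.naturality (EtCore.bcTopIso f).inv.op) s).symm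

theorem trT_map (K : EtCoh.Ab X) (s : EtCoh.sect K (EtCoh.top X)) :
    trT f K (K.obj.map (EtCore.bcTopIso f).hom.op s) = s := by
  unfold trT
  rw [← ConcreteCategory.comp_apply, ← Functor.map_comp, ← op_comp, Iso.inv_hom_id]
  simp

theorem unitSec_trT {G : EtCoh.Ab Y} {K : EtCoh.Ab X} (l : (EtCoh.pull f).obj G ⟶ K)
    (s : EtCoh.sect G (EtCoh.top Y)) :
    trT f K (adjs f l (EtCoh.top Y) s) = l.hom.app (op (EtCoh.top X)) ((unitSec f G).hom s) := by
  rw [adjs_apply, trT_nat, unitSec_eq]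
  rfl

/-- The comparison of charts. -/
theorem exists_of_charts {S : ShortComplex (EtCoh.Ab Y)} {T : ShortComplex (EtCoh.Ab X)}
    (l₁ : (EtCoh.pull f).obj S.X₁ ⟶ T.X₁) (l₂ : (EtCoh.pull f).obj S.X₂ ⟶ T.X₂)
    (l₃ : (EtCoh.pull f).obj S.X₃ ⟶ T.X₃)
    (h12 : (EtCoh.pull f).map S.f ≫ l₂ = l₁ ≫ T.f) (h23 : (EtCoh.pull f).map S.g ≫ l₃ = l₂ ≫ T.g)
    {P : Y.Etaleᵒᵖ ⥤ Type (u + 1)} {P' : X.Etaleᵒᵖ ⥤ Type (u + 1)}
    {D : DiffMap S.X₁.obj P} {D' : DiffMap T.X₁.obj P'}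
    (α : ∀ U : Y.Etale, P.obj (op U) → P'.obj (op ((EtCoh.bc f).obj U)))
    (hα : ∀ {U V : Y.Etale} (g : V ⟶ U) (p : P.obj (op U)),
      α V (P.map g.op p) = P'.map ((EtCoh.bc f).map g).op (α U p))
    (hD : ∀ (U : Y.Etale) (p q : P.obj (op U)), D'.d _ (α U p) (α U q) =
      adjs f l₁ U (D.d (op U) p q))
    (hP : supp P (EtCoh.top Y) ∈ Y.smallEtaleTopology (EtCoh.top Y))
    (c : Chart S D) {q : S.X₃.obj.obj (op (EtCoh.top Y))} (hq : IsSec (EtCore.topIsTerminal Y) c q)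
    (c' : Chart T D') {q' : T.X₃.obj.obj (op (EtCoh.top X))}
    (hq' : IsSec (EtCore.topIsTerminal X) c' q') :
    ∃ s : T.X₂.obj.obj (op (EtCoh.top X)),
      T.g.hom.app (op (EtCoh.top X)) s =
        l₃.hom.app (op (EtCoh.top X)) ((unitSec f S.X₃).hom q) - q' := by
  let S'' : ShortComplex (EtCoh.Ab Y) := T.map (EtCoh.push f)
  let D1 : DiffMap S''.X₁.obj P :=
    { d := fun U p r => D'.d (op ((EtCoh.bc f).obj U.unop)) (α U.unop p) (α U.unop r)
      d_add := fun U p r t => D'.d_add _ _ _ _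
      d_map := fun {U V} g p r => by
        have h1 := D'.d_map ((EtCoh.bc f).map g.unop).op (α U.unop p) (α U.unop r)
        rw [← hα, ← hα] at h1
        exact h1 }
  let c1 : Chart S'' D1 :=
    { φ := fun U p => c'.φ (op ((EtCoh.bc f).obj U.unop)) (α U.unop p)
      nat := fun {U V} g p => by
        have h1 := c'.nat ((EtCoh.bc f).map g.unop).op (α U.unop p)
        rw [← hα] at h1
        exact h1
      diff := fun U p r => c'.diff _ _ _ }
  let D2 : DiffMap S''.X₁.obj P := 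
    { d := fun U p r => adjs f l₁ U.unop (D.d U p r)
      d_add := fun U p r t => by
        have h1 := congrArg (adjs f l₁ U.unop) (D.d_add U p r t)
        rw [map_add] at h1
        exact h1
      d_map := fun {U V} g p r => by
        have h1 := adjs_res f l₁ g.unop (D.d U p r)
        refine h1.symm.trans (congrArg _ (D.d_map g p r)) }
  let c2 : Chart S'' D2 :=
    { φ := fun U p => adjs f l₂ U.unop (c.φ U p)
      nat := fun {U V} g p => by
        have h1 := adjs_res f l₂ g.unop (c.φ U p)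
        exact (congrArg (adjs f l₂ V.unop) (c.nat g p)).trans h1
      diff := fun U p r => by
        have h1 : adjs f l₂ U.unop (c.φ U p) - adjs f l₂ U.unop (c.φ U r) =
            adjs f l₂ U.unop (c.φ U p - c.φ U r) := (map_sub _ _ _).symm
        have h2 := congrArg (adjs f l₂ U.unop) (c.diff U p r)
        exact h1.trans (h2.trans (adjs_comm f S.f T.f l₁ l₂ h12 U.unop (D.d U p r))) }
  have hD12 : ∀ U p r, D2.d U p r = D1.d U p r := fun U p r => (hD U.unop p r).symm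
  let q1 : S''.X₃.obj.obj (op (EtCoh.top Y)) := T.X₃.obj.map (EtCore.bcTopIso f).hom.op q'
  let q2 : S''.X₃.obj.obj (op (EtCoh.top Y)) := adjs f l₃ (EtCoh.top Y) q
  have hq1 : IsSec (EtCore.topIsTerminal Y) c1 q1 := by
    intro U p
    have h1 := hq' ((EtCoh.bc f).obj U) (α U p)
    have h2 : T.X₃.obj.map ((EtCoh.bc f).map ((EtCore.topIsTerminal Y).from U)).op
      (T.X₃.obj.map (EtCore.bcTopIso f).hom.op q') =
        T.X₃.obj.map ((EtCore.topIsTerminal X).from ((EtCoh.bc f).obj U)).op q' := by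
      rw [← ConcreteCategory.comp_apply, ← Functor.map_comp, ← op_comp]
      rw [(EtCore.topIsTerminal X).hom_ext
        ((EtCoh.bc f).map ((EtCore.topIsTerminal Y).from U) ≫ (EtCore.bcTopIso f).hom)
        ((EtCore.topIsTerminal X).from ((EtCoh.bc f).obj U))]
    exact h1.trans h2.symm
  have hq2 : IsSec (EtCore.topIsTerminal Y) c2 q2 := by
    intro U p
    have h1 := adjs_comm f S.g T.g l₂ l₃ h23 U (c.φ (op U) p)
    have h2 := adjs_res f l₃ ((EtCore.topIsTerminal Y).from U) q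
    have h3 := congrArg (adjs f l₃ U) (hq U p)
    exact h1.symm.trans (h3.trans h2)
  obtain ⟨s, hs⟩ := exists_sub_eq (EtCore.topIsTerminal Y) c2 c1 hD12 hP hq2 hq1
  refine ⟨trT f T.X₂ s, ?_⟩
  rw [← trT_nat]
  have hs' : T.g.hom.app (op ((EtCoh.bc f).obj (EtCoh.top Y))) s =
      adjs f l₃ (EtCoh.top Y) q - T.X₃.obj.map (EtCore.bcTopIso f).hom.op q' := hs
  rw [hs', map_sub, trT_map, unitSec_trT]

/-- **Pullback of the class of a torsor datum.** -/
theorem hpl_cl {G : EtCoh.Ab Y} {K : EtCoh.Ab X} (l : (EtCoh.pull f).obj G ⟶ K)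
    {P : Y.Etaleᵒᵖ ⥤ Type (u + 1)} {P' : X.Etaleᵒᵖ ⥤ Type (u + 1)}
    (D : DiffMap G.obj P) (D' : DiffMap K.obj P')
    (α : ∀ U : Y.Etale, P.obj (op U) → P'.obj (op ((EtCoh.bc f).obj U)))
    (hα : ∀ {U V : Y.Etale} (g : V ⟶ U) (p : P.obj (op U)),
      α V (P.map g.op p) = P'.map ((EtCoh.bc f).map g).op (α U p))
    (hD : ∀ (U : Y.Etale) (p q : P.obj (op U)), D'.d _ (α U p) (α U q) =
      adjs f l U (D.d (op U) p q))
    (hP : supp P (EtCoh.top Y) ∈ Y.smallEtaleTopology (EtCoh.top Y))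
    (hP' : supp P' (EtCoh.top X) ∈ X.smallEtaleTopology (EtCoh.top X)) :
    hpl f l 1 (cl G D hP) = cl K D' hP' := by
  have hS := can_shortExact G
  have hT := can_shortExact K
  obtain ⟨φ, hφ⟩ := exists_hom (S := (can G).map (EtCoh.pull f)) (S' := can K)
    (hS.map_of_exact (EtCoh.pull f)) l
  let c := (exists_chart (S := can G) D).some
  obtain ⟨q, hq⟩ := exists_isSec (EtCore.topIsTerminal Y) c hP
  let c' := (exists_chart (S := can K) D').some
  obtain ⟨q', hq'⟩ := exists_isSec (EtCore.topIsTerminal X) c' hP'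
  rw [← dlH_eq_cl (S := can G) hS c hq hP, ← dlH_eq_cl (S := can K) hT c' hq' hP']
  subst hφ
  rw [hpl_dlH f (S := can G) hS hT φ q, dlH_eq_iff]
  exact exists_of_charts f (S := can G) (T := can K) φ.τ₁ φ.τ₂ φ.τ₃ φ.comm₁₂.symm φ.comm₂₃.symm
    α hα hD hP c hq c' hq'

end push

end Groth.Agent.Sga7.H731.ClsPull
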