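import Groth.Agent.Sga7.H731.ClsPull
import Groth.Agent.Sga4B.ConstLC
import Mathlib.AlgebraicGeometry.Morphisms.Etale

/-!
# The class in `H¹` of a character of the group of a Galois covering

`Gal p G`: a group `G` acting on `Y` over `X`, where `p : Y ⟶ X` is étale surjective, transitively on the
fibres (after every étale base change) and with `Y ×_X Y` equivariantly trivial.
For an additive character `χ : G → A` we define `gcl 𝒢 χ ∈ H¹(X, LC X A)`, the class of the torsor of the locally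
constant functions `f` with `f (g y) = f y + χ g`.

* `gcl_add`: additivity in `χ`;
* `eq_zero_of_gcl_eq_zero`: if `Y` is connected and the class of `χ` vanishes then `χ = 0`;
* `hpl_gcl`: functoriality.
-/

set_option autoImplicit false
universe v u
open CategoryTheory CategoryTheory.Limits AlgebraicGeometry Opposite
open scoped Groth.Agent.Etcore.EtInst
open Groth.Agent.Etcore.EtInst Groth.Agent.Etcore.PullCoh Groth.Agent.Etcore.HpullCalc
open Groth.Agent.Etcore.HC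
open Groth.Agent.CurvesA.Torsor Groth.Agent.CurvesA.TorsorCls Groth.Agent.CurvesA.TorsorOps
open Groth.Agent.Sga4B.ConstLC Groth.Agent.Sga7.H731.ClsPull

namespace Groth.Agent.Sga7.H731.CovCls

variable {X Y : Scheme.{u}}

/-- The action on the base change. -/
noncomputable def actU (p : Y ⟶ X) (a : Y ⟶ Y) (ha : a ≫ p = p) {U : Scheme.{u}} (h : U ⟶ X) :
    pullback h p ⟶ pullback h p :=
  pullback.map h p h p (𝟙 U) a (𝟙 X) (by simp) (by simp [ha])

theorem actU_fst (p : Y ⟶ X) (a : Y ⟶ Y) (ha : a ≫ p = p) {U : Scheme.{u}} (h : U ⟶ X) :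
    actU p a ha h ≫ pullback.fst h p = pullback.fst h p :=
  (pullback.lift_fst _ _ _).trans (Category.comp_id _)

theorem actU_snd (p : Y ⟶ X) (a : Y ⟶ Y) (ha : a ≫ p = p) {U : Scheme.{u}} (h : U ⟶ X) :
    actU p a ha h ≫ pullback.snd h p = pullback.snd h p ≫ a :=
  pullback.lift_snd _ _ _

/-- A "Galois covering" `p : Y ⟶ X` with group `G`. -/
structure Gal (p : Y ⟶ X) (G : Type v) [Mul G] where
  act : G → (Y ⟶ Y)
  act_p : ∀ g, act g ≫ p = p
  trans : ∀ (U : X.Etale) (y y' : ↥(pullback U.hom p)),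
    pullback.fst U.hom p y = pullback.fst U.hom p y' → ∃ g, actU p (act g) (act_p g) U.hom y = y'
  triv : ∃ c : ↥(pullback p p) → G, IsLocallyConstant c ∧
    ∀ (g : G) (z : ↥(pullback p p)), c (actU p (act g) (act_p g) p z) = g * c z

variable {p : Y ⟶ X} {G : Type v} [Mul G] (𝒢 : Gal p G)

namespace Gal

/-- the action on `Y ×_X U`. -/
noncomputable abbrev aU (g : G) (U : X.Etale) : pullback U.hom p ⟶ pullback U.hom p :=
  actU p (𝒢.act g) (𝒢.act_p g) U.hom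

/-- restriction to `V → U`. -/
noncomputable abbrev rs (p : Y ⟶ X) {U V : X.Etale} (r : V ⟶ U) : pullback V.hom p ⟶ pullback U.hom p :=
  ((EtCoh.bc p).map r).left

theorem rs_fst {U V : X.Etale} (r : V ⟶ U) :
    rs p r ≫ pullback.fst U.hom p = pullback.fst V.hom p ≫ r.left :=
  (EtCoh.isPullback_bc_map p r).w

theorem rs_snd {U V : X.Etale} (r : V ⟶ U) :
    rs p r ≫ pullback.snd U.hom p = pullback.snd V.hom p :=
  MorphismProperty.Over.w ((EtCoh.bc p).map r)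

theorem aU_rs (g : G) {U V : X.Etale} (r : V ⟶ U) :
    𝒢.aU g V ≫ rs p r = rs p r ≫ 𝒢.aU g U := by
  apply pullback.hom_ext
  · rw [Category.assoc, rs_fst, ← Category.assoc, actU_fst, Category.assoc, actU_fst, rs_fst]
  · rw [Category.assoc, rs_snd, actU_snd, Category.assoc, actU_snd, ← Category.assoc, rs_snd]

theorem rs_aU_apply (g : G) {U V : X.Etale} (r : V ⟶ U) (y : ↥(pullback V.hom p)) :
    rs p r (𝒢.aU g V y) = 𝒢.aU g U (rs p r y) :=
  congrArg (fun t : pullback V.hom p ⟶ pullback U.hom p => t y) (𝒢.aU_rs g r)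

variable (A : Type (u + 1)) [AddCommGroup A] (χ : G → A)

/-- The functions `f` on `Y ×_X U` with `f (g y) = f y + χ g`. -/
def Eq (U : X.Etale) : Type (u + 1) :=
  {f : LocallyConstant ↥(pullback U.hom p) A //
    ∀ (g : G) (y : ↥(pullback U.hom p)), f (𝒢.aU g U y) = f y + χ g}

variable {A χ}

theorem Eq.ext {U : X.Etale} {f f' : 𝒢.Eq A χ U} (h : ∀ y, f.1 y = f'.1 y) : f = f' :=
  Subtype.ext (LocallyConstant.ext h)

/-- restriction -/
noncomputable def res {U V : X.Etale} (r : V ⟶ U) (f : 𝒢.Eq A χ U) : 𝒢.Eq A χ V :=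
  ⟨f.1.comap (cmap (rs p r)), fun g y => by
    change f.1 (rs p r (𝒢.aU g V y)) = f.1 (rs p r y) + χ g
    rw [rs_aU_apply, f.2]⟩

theorem res_apply {U V : X.Etale} (r : V ⟶ U) (f : 𝒢.Eq A χ U) (y : ↥(pullback V.hom p)) :
    (𝒢.res r f).1 y = f.1 (rs p r y) := rfl

theorem rs_id (U : X.Etale) (y : ↥(pullback U.hom p)) : rs p (𝟙 U) y = y := by
  have h : rs p (𝟙 U) = 𝟙 _ := by
    exact congrArg (fun t => t.left) ((EtCoh.bc p).map_id U)
  rw [h]
  rfl

theorem rs_comp {U V W : X.Etale} (r : V ⟶ U) (s : W ⟶ V) (y : ↥(pullback W.hom p)) :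
    rs p (s ≫ r) y = rs p r (rs p s y) := by
  have h : rs p (s ≫ r) = rs p s ≫ rs p r := by
    exact congrArg (fun t => t.left) ((EtCoh.bc p).map_comp s r)
  rw [h]
  rfl

variable (χ) in
/-- The presheaf of `χ`-equivariant functions. -/
noncomputable def P : X.Etaleᵒᵖ ⥤ Type (u + 1) where
  obj U := 𝒢.Eq A χ U.unop
  map r := ↾fun f => 𝒢.res r.unop f
  map_id U := by
    ext f
    apply Eq.ext
    intro y
    change f.1 (rs p (𝟙 U.unop) y) = f.1 y
    rw [rs_id]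
  map_comp {U V W} r s := by
    ext f
    apply Eq.ext
    intro y
    change f.1 (rs p (s.unop ≫ r.unop) y) = f.1 (rs p r.unop (rs p s.unop y))
    rw [rs_comp]

theorem P_map {U V : X.Etaleᵒᵖ} (r : U ⟶ V) (f : (𝒢.P χ).obj U) :
    (𝒢.P χ).map r f = 𝒢.res r.unop f := rfl

section diff

variable [Etale p] [Surjective p]

omit [Etale p] in
theorem surj (U : X.Etale) (x : U.left) : ∃ y : ↥(pullback U.hom p), pullback.fst U.hom p y = x :=
  (inferInstance : Surjective (pullback.fst U.hom p)).surj x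

/-- The difference of two equivariant functions, as a function on `U`. -/
noncomputable def df {U : X.Etale} (f f' : 𝒢.Eq A χ U) : LocallyConstant U.left A where
  toFun x := f.1 (surj (p := p) U x).choose - f'.1 (surj (p := p) U x).choose
  isLocallyConstant := by
    have key : ∀ (y y' : ↥(pullback U.hom p)), pullback.fst U.hom p y = pullback.fst U.hom p y' →
        f.1 y - f'.1 y = f.1 y' - f'.1 y' := by
      intro y y' h
      obtain ⟨g, rfl⟩ := 𝒢.trans U y y' h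
      rw [f.2 g y, f'.2 g y]
      abel
    rw [IsLocallyConstant.iff_exists_open]
    intro x
    let y := (surj (p := p) U x).choose
    have hy : pullback.fst U.hom p y = x := (surj (p := p) U x).choose_spec
    obtain ⟨N, hN, hyN, hNc⟩ := (f.1 - f'.1).isLocallyConstant.exists_open y
    refine ⟨pullback.fst U.hom p '' N, (pullback.fst U.hom p).isOpenMap _ hN, ⟨y, hyN, hy⟩, ?_⟩
    rintro _ ⟨z, hz, rfl⟩
    have h1 := key _ z (surj (p := p) U (pullback.fst U.hom p z)).choose_spec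
    exact h1.trans (hNc z hz)

omit [Etale p] [Surjective p] in
theorem key {U : X.Etale} (f f' : 𝒢.Eq A χ U) (y y' : ↥(pullback U.hom p))
    (h : pullback.fst U.hom p y = pullback.fst U.hom p y') : f.1 y - f'.1 y = f.1 y' - f'.1 y' := by
  obtain ⟨g, rfl⟩ := 𝒢.trans U y y' h
  rw [f.2 g y, f'.2 g y]
  abel

theorem df_fst {U : X.Etale} (f f' : 𝒢.Eq A χ U) (y : ↥(pullback U.hom p)) :
    𝒢.df f f' (pullback.fst U.hom p y) = f.1 y - f'.1 y :=
  𝒢.key f f' _ _ (surj (p := p) U (pullback.fst U.hom p y)).choose_spec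

/-- the torsor datum -/
noncomputable def D : DiffMap (LC X A).obj (𝒢.P χ) where
  d U f f' := 𝒢.df (U := U.unop) f f'
  d_add U f f' f'' := by
    apply LocallyConstant.ext
    intro x
    obtain ⟨y, rfl⟩ := surj (p := p) U.unop x
    change 𝒢.df (U := U.unop) f f' _ + 𝒢.df (U := U.unop) f' f'' _ = 𝒢.df (U := U.unop) f f'' _
    rw [df_fst, df_fst, df_fst]
    abel
  d_map {U V} r f f' := by
    apply LocallyConstant.ext
    intro x
    obtain ⟨y, rfl⟩ := surj (p := p) V.unop x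
    change 𝒢.df (U := U.unop) f f' (r.unop.left _) =
      𝒢.df (U := V.unop) (𝒢.res r.unop f) (𝒢.res r.unop f') _
    rw [df_fst]
    have h : r.unop.left (pullback.fst V.unop.hom p y) = pullback.fst U.unop.hom p (rs p r.unop y) :=
      congrArg (fun t : pullback V.unop.hom p ⟶ U.unop.left => t y) (rs_fst (p := p) r.unop).symm
    rw [h, df_fst]
    rfl

/-- `Y` as an étale `X`-scheme. -/
noncomputable abbrev YE (p : Y ⟶ X) [Etale p] : X.Etale := Scheme.Etale.mk p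

theorem supp_mem (hχ : ∀ g h, χ (g * h) = χ g + χ h) :
    supp (𝒢.P χ) (EtCoh.top X) ∈ X.smallEtaleTopology (EtCoh.top X) := by
  rw [mem_smallEtale_iff]
  intro x
  obtain ⟨y, hy⟩ := (inferInstance : Surjective p).surj x
  refine ⟨YE p, toTop _, y, ?_, ?_⟩
  · obtain ⟨c, hc, hcg⟩ := 𝒢.triv
    refine ⟨(⟨⟨fun z => χ (c z), hc.comp χ⟩, fun g z => ?_⟩ : 𝒢.Eq A χ (YE p))⟩
    change χ (c (actU p (𝒢.act g) (𝒢.act_p g) p z)) = χ (c z) + χ g
    rw [hcg, hχ, add_comm]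
  · have h : (toTop (YE p)).left = p := by
      exact (Category.comp_id _).symm.trans (MorphismProperty.Over.w (toTop (YE p)))
    rw [h]
    exact hy

/-- The class of a character. -/
noncomputable def gcl (hχ : ∀ g h, χ (g * h) = χ g + χ h) : HH X (LC X A) 1 :=
  cl (LC X A) (𝒢.D (χ := χ)) (𝒢.supp_mem hχ)

/-- the sum of two equivariant functions -/
noncomputable def add {χ' : G → A} {U : X.Etale} (f : 𝒢.Eq A χ U) (f' : 𝒢.Eq A χ' U) :
    𝒢.Eq A (χ + χ') U :=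
  ⟨f.1 + f'.1, fun g y => by
    change f.1 _ + f'.1 _ = (f.1 _ + f'.1 _) + (χ g + χ' g)
    rw [f.2, f'.2]
    abel⟩

theorem df_add {χ' : G → A} {U : X.Etale} (f₁ f₂ : 𝒢.Eq A χ U) (f₁' f₂' : 𝒢.Eq A χ' U) :
    𝒢.df f₁ f₂ + 𝒢.df f₁' f₂' = 𝒢.df (𝒢.add f₁ f₁') (𝒢.add f₂ f₂') := by
  apply LocallyConstant.ext
  intro x
  obtain ⟨y, rfl⟩ := surj (p := p) U x
  change 𝒢.df f₁ f₂ _ + 𝒢.df f₁' f₂' _ = _
  rw [df_fst, df_fst, df_fst]
  change _ = (f₁.1 y + f₁'.1 y) - (f₂.1 y + f₂'.1 y)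
  abel

theorem gcl_add {χ' : G → A} (hχ : ∀ g h, χ (g * h) = χ g + χ h)
    (hχ' : ∀ g h, χ' (g * h) = χ' g + χ' h) (hs : ∀ g h, (χ + χ') (g * h) = (χ + χ') g + (χ + χ') h) :
    𝒢.gcl hs = 𝒢.gcl hχ + 𝒢.gcl hχ' := by
  let α : ∀ U : X.Etaleᵒᵖ, (prodP (𝒢.P χ) (𝒢.P χ')).obj U → (𝒢.P (χ + χ')).obj U :=
    fun U (f : 𝒢.Eq A χ U.unop × 𝒢.Eq A χ' U.unop) => 𝒢.add f.1 f.2
  have hα : ∀ {U V : X.Etaleᵒᵖ} (r : U ⟶ V) (f : (prodP (𝒢.P χ) (𝒢.P χ')).obj U),
      α V ((prodP (𝒢.P χ) (𝒢.P χ')).map r f) = (𝒢.P (χ + χ')).map r (α U f) := fun r f => rfl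
  have hD : ∀ U f f', (prodD (𝒢.D (χ := χ)) (𝒢.D (χ := χ'))).d U f f' =
      (𝒢.D (χ := χ + χ')).d U (α U f) (α U f') := fun U f f' => 𝒢.df_add f.1 f'.1 f.2 f'.2
  have h1 := cl_congr (F := LC X A) (𝒢.D (χ := χ + χ')) (prodD (𝒢.D (χ := χ)) (𝒢.D (χ := χ'))) α hα hD
    (𝒢.supp_mem hs) (supp_prodP _ _ (𝒢.supp_mem hχ) (𝒢.supp_mem hχ'))
  exact h1.symm.trans (cl_prodD (𝒢.D (χ := χ)) (𝒢.D (χ := χ')) (𝒢.supp_mem hχ) (𝒢.supp_mem hχ'))

/-- **Vanishing criterion.** -/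
theorem eq_zero_of_gcl_eq_zero [ConnectedSpace Y] (hχ : ∀ g h, χ (g * h) = χ g + χ h)
    (h0 : 𝒢.gcl hχ = 0) (g : G) : χ g = 0 := by
  obtain ⟨h', hnat', hd'⟩ := (cl_eq_zero_iff (𝒢.D (χ := χ)) (𝒢.supp_mem hχ)).1 h0
  let h : ∀ (U : X.Etale), 𝒢.Eq A χ U → LocallyConstant U.left A := fun U f => h' (op U) f
  have hnat : ∀ {U V : X.Etale} (r : V ⟶ U) (f : 𝒢.Eq A χ U) (x : V.left),
      h V (𝒢.res r f) x = h U f (r.left x) := fun {U V} r f x =>
    congrArg (fun t : LocallyConstant V.left A => t x) (hnat' r.op f)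
  have hd : ∀ (U : X.Etale) (f f' : 𝒢.Eq A χ U) (x : U.left), h U f x - h U f' x = 𝒢.df f f' x :=
    fun U f f' x => congrArg (fun t : LocallyConstant U.left A => t x) (hd' (op U) f f')
  let E : EtCoh.Ab X := (EtCoh.push p).obj (LC Y A)
  -- the corrected functions
  let F : ∀ (U : X.Etale), 𝒢.Eq A χ U → LocallyConstant ↥(pullback U.hom p) A := fun U f =>
    f.1 - LocallyConstant.comap (cmap (pullback.fst U.hom p)) (h U f)
  have hFd : ∀ (U : X.Etale) (f : 𝒢.Eq A χ U) (y : ↥(pullback U.hom p)),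
      F U f y = f.1 y - h U f (pullback.fst U.hom p y) := fun _ _ _ => rfl
  have hF : ∀ (U : X.Etale) (f f' : 𝒢.Eq A χ U), F U f = F U f' := by
    intro U f f'
    apply LocallyConstant.ext
    intro y
    have h1 := hd U f f' (pullback.fst U.hom p y)
    rw [df_fst] at h1
    rw [hFd, hFd, sub_eq_sub_iff_sub_eq_sub, h1]
  have hFr : ∀ {U V : X.Etale} (r : V ⟶ U) (f : 𝒢.Eq A χ U) (y : ↥(pullback V.hom p)),
      F V (𝒢.res r f) y = F U f (rs p r y) := by
    intro U V r f y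
    have h3 : r.left (pullback.fst V.hom p y) = pullback.fst U.hom p (rs p r y) :=
      congrArg (fun t : pullback V.hom p ⟶ U.left => t y) (rs_fst (p := p) r).symm
    rw [hFd, hFd, hnat, h3]
    rfl
  obtain ⟨f0, hf0⟩ := exists_glue E (supp (𝒢.P χ) (EtCoh.top X)) (𝒢.supp_mem hχ)
    (fun {V} r hr => (F V (Classical.choice hr) : LocallyConstant ↥(pullback V.hom p) A)) (by
      intro V W r f hf
      apply LocallyConstant.ext
      intro y
      change F V (Classical.choice hf) (rs p r y) = F W _ y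
      rw [← hFr, hF W _ (Classical.choice ((supp (𝒢.P χ) (EtCoh.top X)).downward_closed hf r))])
  -- `f0` on `top ×_X Y`
  let f0' : LocallyConstant ↥(pullback (EtCoh.top X).hom p) A := f0
  have hloc : ∀ {V : X.Etale} (r : V ⟶ EtCoh.top X) (f : 𝒢.Eq A χ V) (y : ↥(pullback V.hom p)),
      f0' (rs p r y) = F V f y := by
    intro V r f y
    have h1 := hf0 r ⟨f⟩
    have h2 : f0' (rs p r y) = F V (Classical.choice ⟨f⟩) y :=
      congrArg (fun t : LocallyConstant ↥(pullback V.hom p) A => t y) h1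
    rw [h2, hF V _ f]
  have heq : ∀ y : ↥(pullback (EtCoh.top X).hom p), f0' (𝒢.aU g (EtCoh.top X) y) = f0' y + χ g := by
    intro y
    obtain ⟨V, r, v, ⟨f⟩, hv⟩ := (mem_smallEtale_iff _ _).1 (𝒢.supp_mem hχ)
      (pullback.fst (EtCoh.top X).hom p y)
    obtain ⟨z, hz1⟩ : ∃ z, rs p r z = y := by
      have sq := EtCoh.isPullback_bc_map p r
      obtain ⟨z, hz1, -⟩ := Scheme.Pullback.exists_preimage_pullback
        (f := (pullback.fst (EtCoh.top X).hom p :
          ((EtCoh.bc p).obj (EtCoh.top X)).left ⟶ (EtCoh.top X).left)) (g := r.left) y v hv.symm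
      refine ⟨sq.isoPullback.inv z, ?_⟩
      rw [← hz1]
      exact congrArg (fun t : pullback (pullback.fst (EtCoh.top X).hom p :
          ((EtCoh.bc p).obj (EtCoh.top X)).left ⟶ (EtCoh.top X).left) r.left ⟶ _ => t z)
        (IsPullback.isoPullback_inv_fst sq)
    rw [← hz1, ← rs_aU_apply, hloc r f, hloc r f]
    have h1 : pullback.fst V.hom p (𝒢.aU g V z) = pullback.fst V.hom p z :=
      congrArg (fun t : pullback V.hom p ⟶ V.left => t z) (actU_fst p (𝒢.act g) (𝒢.act_p g) V.hom)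
    rw [hFd, hFd, h1, f.2]
    abel
  have hc : ConnectedSpace ↥(pullback (EtCoh.top X).hom p) := by
    have hi : IsIso (pullback.snd (EtCoh.top X).hom p) := by
      change IsIso (pullback.snd (𝟙 X) p)
      infer_instance
    exact (Scheme.homeoOfIso (asIso (pullback.snd (EtCoh.top X).hom p))).symm.surjective.connectedSpace
      (Scheme.homeoOfIso (asIso (pullback.snd (EtCoh.top X).hom p))).symm.continuous
  obtain ⟨y⟩ := hc.toNonempty
  have h1 := heq y
  have h2 : f0' (𝒢.aU g (EtCoh.top X) y) = f0' y :=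
    f0'.isLocallyConstant.apply_eq_of_preconnectedSpace _ _
  rw [h2] at h1
  exact (left_eq_add.mp h1)

end diff

section funct

variable {X' Y' : Scheme.{u}} {p' : Y' ⟶ X'} {G' : Type v} [Mul G'] (𝒢' : Gal p' G')

/-- the map `Y' ×_{X'} (U ×_X X') → Y ×_X U`. -/
noncomputable def bcM (φ : X' ⟶ X) (ψ : Y' ⟶ Y) (w : ψ ≫ p = p' ≫ φ) (U : X.Etale) :
    pullback ((EtCoh.bc φ).obj U).hom p' ⟶ pullback U.hom p :=
  pullback.lift (pullback.fst _ _ ≫ (pullback.fst U.hom φ : ((EtCoh.bc φ).obj U).left ⟶ U.left))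
    (pullback.snd _ _ ≫ ψ) (by
      rw [Category.assoc, Category.assoc, w, ← pullback.condition_assoc]
      congr 1
      exact pullback.condition)

theorem bcM_fst (φ : X' ⟶ X) (ψ : Y' ⟶ Y) (w : ψ ≫ p = p' ≫ φ) (U : X.Etale) :
    bcM φ ψ w U ≫ pullback.fst U.hom p = pullback.fst ((EtCoh.bc φ).obj U).hom p' ≫
      (pullback.fst U.hom φ : ((EtCoh.bc φ).obj U).left ⟶ U.left) :=
  pullback.lift_fst _ _ _

theorem bcM_snd (φ : X' ⟶ X) (ψ : Y' ⟶ Y) (w : ψ ≫ p = p' ≫ φ) (U : X.Etale) :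
    bcM φ ψ w U ≫ pullback.snd U.hom p = pullback.snd ((EtCoh.bc φ).obj U).hom p' ≫ ψ :=
  pullback.lift_snd _ _ _

theorem aU_bcM (φ : X' ⟶ X) (ψ : Y' ⟶ Y) (w : ψ ≫ p = p' ≫ φ) (g : G) (g' : G')
    (hg : 𝒢'.act g' ≫ ψ = ψ ≫ 𝒢.act g) (U : X.Etale) :
    𝒢'.aU g' ((EtCoh.bc φ).obj U) ≫ bcM φ ψ w U = bcM φ ψ w U ≫ 𝒢.aU g U := by
  apply pullback.hom_ext
  · rw [Category.assoc, bcM_fst, ← Category.assoc, actU_fst, Category.assoc, actU_fst, bcM_fst]
  · have e1 : (𝒢'.aU g' ((EtCoh.bc φ).obj U) ≫ bcM φ ψ w U) ≫ pullback.snd U.hom p =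
        (pullback.snd ((EtCoh.bc φ).obj U).hom p' ≫ 𝒢'.act g') ≫ ψ := by
      rw [Category.assoc, bcM_snd, ← Category.assoc, actU_snd]
    have e2 : (bcM φ ψ w U ≫ 𝒢.aU g U) ≫ pullback.snd U.hom p =
        (pullback.snd ((EtCoh.bc φ).obj U).hom p' ≫ ψ) ≫ 𝒢.act g := by
      rw [Category.assoc, actU_snd]
      exact (Category.assoc _ _ _).symm.trans (congrArg (fun t => t ≫ 𝒢.act g) (bcM_snd φ ψ w U))
    rw [e1, e2, Category.assoc, hg, Category.assoc]

theorem rs_bcM (φ : X' ⟶ X) (ψ : Y' ⟶ Y) (w : ψ ≫ p = p' ≫ φ) {U V : X.Etale} (r : V ⟶ U) :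
    rs p' ((EtCoh.bc φ).map r) ≫ bcM φ ψ w U = bcM φ ψ w V ≫ rs p r := by
  apply pullback.hom_ext
  · rw [Category.assoc, bcM_fst, ← Category.assoc, rs_fst, Category.assoc, Category.assoc, rs_fst]
    refine Eq.trans ?_ ((congrArg (fun t => t ≫ r.left) (bcM_fst φ ψ w V)).symm.trans
      (Category.assoc _ _ _))
    rw [Category.assoc]
    exact congrArg (fun t => pullback.fst ((EtCoh.bc φ).obj V).hom p' ≫ t)
      (EtCoh.isPullback_bc_map φ r).w
  · rw [Category.assoc, bcM_snd, ← Category.assoc, rs_snd, Category.assoc, rs_snd, bcM_snd]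

variable [Etale p] [Surjective p] [Etale p'] [Surjective p']

/-- **Functoriality of the class of a character.** -/
theorem hpl_gcl (φ : X' ⟶ X) (ψ : Y' ⟶ Y) (w : ψ ≫ p = p' ≫ φ) (u : G' → G)
    (hu : ∀ g', 𝒢'.act g' ≫ ψ = ψ ≫ 𝒢.act (u g'))
    (hχ : ∀ g h, χ (g * h) = χ g + χ h) {χ' : G' → A} (hχ' : ∀ g h, χ' (g * h) = χ' g + χ' h)
    (hc : ∀ g', χ' g' = χ (u g')) :
    hpl φ (LCpull φ A) 1 (𝒢.gcl hχ) = 𝒢'.gcl hχ' := by
  let α : ∀ U : X.Etale, 𝒢.Eq A χ U → 𝒢'.Eq A χ' ((EtCoh.bc φ).obj U) := fun U f =>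
    ⟨f.1.comap (cmap (bcM φ ψ w U)), fun g' y => by
      change f.1 (bcM φ ψ w U (𝒢'.aU g' _ y)) = f.1 (bcM φ ψ w U y) + χ' g'
      have h1 : bcM φ ψ w U (𝒢'.aU g' _ y) = 𝒢.aU (u g') U (bcM φ ψ w U y) :=
        congrArg (fun t : pullback ((EtCoh.bc φ).obj U).hom p' ⟶ pullback U.hom p => t y)
          (𝒢.aU_bcM 𝒢' φ ψ w (u g') g' (hu g') U)
      rw [h1, f.2, hc]⟩
  refine hpl_cl φ (LCpull φ A) (𝒢.D (χ := χ)) (𝒢'.D (χ := χ')) α ?_ ?_ (𝒢.supp_mem hχ) (𝒢'.supp_mem hχ')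
  · intro U V r f
    apply Eq.ext
    intro y
    change f.1 (rs p r (bcM φ ψ w V y)) = f.1 (bcM φ ψ w U (rs p' ((EtCoh.bc φ).map r) y))
    congr 1
    exact congrArg (fun t : pullback ((EtCoh.bc φ).obj V).hom p' ⟶ pullback U.hom p => t y)
      (rs_bcM φ ψ w r).symm
  · intro U f f'
    have h1 : adjs φ (LCpull φ A) U = ((LCres φ A).hom.app (op U)).hom := by
      unfold adjs LCpull
      rw [Equiv.apply_symm_apply]
    rw [h1]
    apply LocallyConstant.ext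
    intro x
    obtain ⟨y, rfl⟩ := surj (p := p') ((EtCoh.bc φ).obj U) x
    change 𝒢'.df (α U f) (α U f') (pullback.fst ((EtCoh.bc φ).obj U).hom p' y) =
      𝒢.df f f' ((pullback.fst U.hom φ : ((EtCoh.bc φ).obj U).left ⟶ U.left)
        (pullback.fst ((EtCoh.bc φ).obj U).hom p' y))
    have h2 : (pullback.fst U.hom φ : ((EtCoh.bc φ).obj U).left ⟶ U.left)
        (pullback.fst ((EtCoh.bc φ).obj U).hom p' y) = pullback.fst U.hom p (bcM φ ψ w U y) :=
      congrArg (fun t : pullback ((EtCoh.bc φ).obj U).hom p' ⟶ U.left => t y) (bcM_fst φ ψ w U).symm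
    rw [df_fst, h2, df_fst]
    rfl

end funct

end Gal

end Groth.Agent.Sga7.H731.CovCls
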