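import Groth.Agent.Sga1.EtaleSection
import Mathlib.AlgebraicGeometry.Sites.EtalePoint

/-!
# Étale schemes over a field and separably closed extensions

`E ⟶ Spec K` étale, `Ω ⊇ K` separably closed, `T` an `Ω`-scheme: a `K`-morphism `δ : T ⟶ E` is locally constant,
i.e. locally the composite of `T ⟶ Spec Ω` and an `Ω`-point of `E`; the `Ω`-point is unique.
-/

set_option autoImplicit false
set_option backward.isDefEq.respectTransparency false
universe u
open CategoryTheory CategoryTheory.Limits AlgebraicGeometry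
open Groth.Agent.Sga1.EtaleSection

namespace Groth.Agent.Sga7.H731.EtSec

variable {S : Scheme.{u}} {Ω : Type u} [Field Ω] (w : Spec (.of Ω) ⟶ S)

/-- uniqueness -/
theorem pt_unique {E T : Scheme.{u}} (π : E ⟶ S) [Etale π] (t : T ⟶ Spec (.of Ω)) [Nonempty T]
    (x x' : Spec (.of Ω) ⟶ E) (hx : x ≫ π = w) (hx' : x' ≫ π = w) (h : t ≫ x = t ≫ x') : x = x' := by
  -- sections of the base change
  let s : Spec (.of Ω) ⟶ pullback π w := pullback.lift x (𝟙 _) (by simp [hx])
  let s' : Spec (.of Ω) ⟶ pullback π w := pullback.lift x' (𝟙 _) (by simp [hx'])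
  have hs : s ≫ pullback.snd π w = 𝟙 _ := pullback.lift_snd _ _ _
  have hs' : s' ≫ pullback.snd π w = 𝟙 _ := pullback.lift_snd _ _ _
  have hts : t ≫ s = t ≫ s' := by
    apply pullback.hom_ext
    · simp [s, s', h]
    · simp [s, s']
  obtain ⟨z⟩ := (inferInstance : Nonempty T)
  have hz : s (t z) = s' (t z) := congrArg (fun r : T ⟶ pullback π w => r z) hts
  have hr : Set.range s'.base ⊆ Set.range s.base := by
    rintro _ ⟨y, rfl⟩
    refine ⟨t z, ?_⟩
    have : y = t z := Subsingleton.elim _ _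
    rw [this]
    exact hz
  have h2 : s = s' := section_ext (pullback.snd π w) s s' hs hs' hr
  have h3 := congrArg (fun r => r ≫ pullback.fst π w) h2
  simpa [s, s'] using h3

/-- local existence -/
theorem exists_nhd {E T : Scheme.{u}} [IsSepClosed Ω] (π : E ⟶ S) [Etale π] (t : T ⟶ Spec (.of Ω))
    (δ : T ⟶ E) (hδ : δ ≫ π = t ≫ w) (z : T) :
    ∃ (N : T.Opens) (x : Spec (.of Ω) ⟶ E), z ∈ N ∧ x ≫ π = w ∧ N.ι ≫ δ = N.ι ≫ t ≫ x := by
  let δ' : T ⟶ pullback π w := pullback.lift δ t hδ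
  obtain ⟨s, hs, hsz⟩ := Scheme.exists_fac_of_etale_of_isSepClosed (pullback.snd π w) (𝟙 _) (δ' z)
    (Subsingleton.elim _ _)
  have : IsOpenImmersion s := isOpenImmersion_section _ s hs
  refine ⟨δ' ⁻¹ᵁ s.opensRange, s ≫ pullback.fst π w, ?_, ?_, ?_⟩
  · change δ' z ∈ Set.range s.base
    exact ⟨default, hsz⟩
  · rw [Category.assoc, pullback.condition, reassoc_of% hs]
  · have h1 := eq_comp_section (pullback.snd π w) s hs ((δ' ⁻¹ᵁ s.opensRange).ι ≫ δ') (by
      rintro _ ⟨y, rfl⟩
      exact y.2)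
    have h2 := congrArg (fun r => r ≫ pullback.fst π w) h1
    simpa [δ'] using h2

end Groth.Agent.Sga7.H731.EtSec
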