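import Groth.Agent.Sga7.H731.AbCover
import Groth.Agent.Sga7.H731.CharSep
import Groth.Prelude.Def_SGA7I

/-!
# From the cohomology of a curve in an abelian variety to its torsion points

`levelTwo_of_cohAct`: let `A` be a commutative group scheme over `K` with étale surjective multiplication by `n`,
`f : C ⟶ Spec K` and `C ⟶ A` such that the cover `[n]⁻¹(C_Ω)` of `C_Ω` is connected. If
`(cohAct σ - 1) (cohAct τ - 1) = 0` on `H¹(C_Ω, ZMod n)` for `(σ, τ) = (τ₀, σ₀)`, then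
`(σ₀ - 1) (τ₀ - 1)` kills the `n`-torsion points.
-/

set_option autoImplicit false
set_option backward.isDefEq.respectTransparency false
universe u
open CategoryTheory CategoryTheory.Limits MonoidalCategory CartesianMonoidalCategory AlgebraicGeometry MonObj
open scoped Groth.Agent.Etcore.EtInst

namespace Groth.Agent.Sga7.H731.LevelTwo

open Groth.Agent.Sga7.H731.AbTor Groth.Agent.Sga7.H731.CovCls Groth.Agent.Sga7.H731.AbCover
open Groth.Agent.Sga7.H731.CovClsC Groth.Agent.Etcore.HC Groth.Agent.Etcore.EtInst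

variable {K : Type u} [Field K] {Ω : Type u} [Field Ω] [Algebra K Ω]

section gal

variable {A : Over (Spec (CommRingCat.of K))}

theorem specAut_mul (σ τ : Ω ≃ₐ[K] Ω) :
    SGA7.specAut σ ≫ SGA7.specAut τ = SGA7.specAut (K := K) (σ * τ) := by
  apply Over.OverMorphism.ext
  change Spec.map _ ≫ Spec.map _ = Spec.map _
  rw [← Spec.map_comp]
  rfl

theorem specAut_one : SGA7.specAut (K := K) (1 : Ω ≃ₐ[K] Ω) = 𝟙 _ := by
  apply Over.OverMorphism.ext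
  change Spec.map _ = 𝟙 _
  rw [← Spec.map_id]
  rfl

theorem galAct_mul (σ τ : Ω ≃ₐ[K] Ω) (x : SGA7.Pts Ω A) :
    SGA7.galAct (σ * τ) x = SGA7.galAct σ (SGA7.galAct τ x) := by
  unfold SGA7.galAct
  rw [← specAut_mul, Category.assoc]

theorem galAct_one (x : SGA7.Pts Ω A) : SGA7.galAct (1 : Ω ≃ₐ[K] Ω) x = x := by
  unfold SGA7.galAct
  rw [specAut_one, Category.id_comp]

variable [GrpObj A]

/-- as a homomorphism -/
noncomputable def galHom (σ : Ω ≃ₐ[K] Ω) : SGA7.Pts Ω A →* SGA7.Pts Ω A where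
  toFun x := SGA7.galAct σ x
  map_one' := MonObj.comp_one _
  map_mul' _ _ := MonObj.comp_mul _ _ _

end gal

variable {A : Over (Spec (CommRingCat.of K))} [GrpObj A] [IsCommMonObj A] (n : ℕ)

/-- the action on torsion points -/
noncomputable def torHom (σ : Ω ≃ₐ[K] Ω) : Tor Ω A n →* Tor Ω A n where
  toFun x := ⟨SGA7.galAct σ x.1, by
    have h := map_pow (galHom σ) x.1 n
    rw [(mem_Tor Ω A n x.1).1 x.2, map_one] at h
    exact (mem_Tor Ω A n _).2 h.symm⟩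
  map_one' := Subtype.ext (map_one (galHom σ))
  map_mul' x y := Subtype.ext (map_mul (galHom σ) x.1 y.1)

theorem torHom_mul (σ τ : Ω ≃ₐ[K] Ω) (x : Tor Ω A n) :
    torHom n (σ * τ) x = torHom n σ (torHom n τ x) := Subtype.ext (galAct_mul σ τ x.1)

theorem torHom_inv (σ : Ω ≃ₐ[K] Ω) (x : Tor Ω A n) : torHom n σ (torHom n σ⁻¹ x) = x := by
  rw [← torHom_mul, mul_inv_cancel]
  exact Subtype.ext (galAct_one x.1)

theorem torHom_inv' (σ : Ω ≃ₐ[K] Ω) (x : Tor Ω A n) : torHom n σ⁻¹ (torHom n σ x) = x := by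
  rw [← torHom_mul, inv_mul_cancel]
  exact Subtype.ext (galAct_one x.1)

variable (Ω) {C : Scheme.{u}} (f : C ⟶ Spec (CommRingCat.of K)) (i : Over.mk f ⟶ A)

/-- `C_Ω` over `K` -/
noncomputable abbrev CΩ : Over (Spec (CommRingCat.of K)) :=
  Over.mk (pullback.fst f (Spec.map (CommRingCat.ofHom (algebraMap K Ω))) ≫ f)

/-- the morphism to `C` -/
noncomputable abbrev cpr : CΩ Ω f ⟶ Over.mk f := Over.homMk (pullback.fst _ _)

/-- the morphism to `Spec Ω` -/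
noncomputable abbrev cst : CΩ Ω f ⟶ SGA7.pt Ω := Over.homMk (pullback.snd _ _) pullback.condition.symm

variable {Ω}

/-- the twist -/
noncomputable abbrev tw (σ : Ω ≃ₐ[K] Ω) : CΩ Ω f ⟶ CΩ Ω f := Over.homMk (SGA7.twistAut Ω f σ) (by
  change SGA7.twistAut Ω f σ ≫ pullback.fst _ _ ≫ f = _
  unfold SGA7.twistAut
  rw [pullback.map, pullback.lift_fst_assoc, Category.comp_id]
  rfl)

theorem tw_cpr (σ : Ω ≃ₐ[K] Ω) : tw f σ ≫ cpr Ω f = cpr Ω f := by
  apply Over.OverMorphism.ext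
  exact (pullback.lift_fst _ _ _).trans (Category.comp_id _)

theorem tw_cst (σ : Ω ≃ₐ[K] Ω) : tw f σ ≫ cst Ω f = cst Ω f ≫ SGA7.specAut σ := by
  apply Over.OverMorphism.ext
  exact pullback.lift_snd _ _ _

variable {f} in
/-- the morphism `C_Ω ⟶ A` -/
noncomputable abbrev ca (Ω : Type u) [Field Ω] [Algebra K Ω] (i : Over.mk f ⟶ A) : CΩ Ω f ⟶ A := cpr Ω f ≫ i

variable {f} in
/-- the twist on the cover -/
noncomputable def twc (σ : Ω ≃ₐ[K] Ω) : Cov n (ca Ω i) ⟶ Cov n (ca Ω i) :=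
  toCov (cp n (ca Ω i) ≫ tw f σ) (cb n (ca Ω i)) (by
    rw [cb_pow, Category.assoc, ← Category.assoc (tw f σ), tw_cpr])

variable {f}

theorem twc_cp (σ : Ω ≃ₐ[K] Ω) : twc n i σ ≫ cp n (ca Ω i) = cp n (ca Ω i) ≫ tw f σ := toCov_cp _ _ _

theorem twc_cb (σ : Ω ≃ₐ[K] Ω) : twc n i σ ≫ cb n (ca Ω i) = cb n (ca Ω i) := toCov_cb _ _ _

theorem cact_twc (σ : Ω ≃ₐ[K] Ω) (g : Tor Ω A n) :
    cact n (ca Ω i) (cst Ω f) g ≫ twc n i σ =
      twc n i σ ≫ cact n (ca Ω i) (cst Ω f) (torHom n σ⁻¹ g) := by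
  refine cov_ext ?_ ?_
  · rw [Category.assoc, twc_cp, ← Category.assoc, cact_cp, Category.assoc, cact_cp, twc_cp]
  · rw [Category.assoc, twc_cb, cact_cb, Category.assoc, cact_cb, MonObj.comp_mul, twc_cb,
      ← Category.assoc (twc n i σ), twc_cp, Category.assoc, ← Category.assoc (tw f σ), tw_cst,
      Category.assoc]
    congr 3
    exact (congrArg Subtype.val (torHom_inv n σ g)).symm

section main

variable [IsSepClosed Ω] [Etale (𝟙 A ^ n : A ⟶ A).left] [Surjective (𝟙 A ^ n : A ⟶ A).left]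

variable (Ω) in
/-- the covering structure -/
noncomputable abbrev gl : Gal (pullback.fst (ca Ω i).left (𝟙 A ^ n : A ⟶ A).left) (Tor Ω A n) :=
  abGal n (ca Ω i) (cst Ω f)

theorem HC_gl (σ : Ω ≃ₐ[K] Ω) {χ : Tor Ω A n → ZMod n} (hχ : ∀ g h, χ (g * h) = χ g + χ h)
    (hχ' : ∀ g h, χ (torHom n σ⁻¹ (g * h)) = χ (torHom n σ⁻¹ g) + χ (torHom n σ⁻¹ h)) :
    HC (ZMod n) (tw f σ).left 1 (cc (gl Ω n i) hχ) =
      cc (gl Ω n i) (χ := fun g => χ (torHom n σ⁻¹ g)) hχ' := by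
  refine HC_cc (gl Ω n i) (gl Ω n i) (tw f σ).left (twc n i σ).left ?_
    (fun g => torHom n σ⁻¹ g) ?_ hχ hχ' (fun _ => rfl)
  · exact congrArg (fun r => r.left) (twc_cp n i σ)
  · intro g
    exact congrArg (fun r => r.left) (cact_twc n i σ g)

theorem chi_one {G : Type*} [Group G] {M : Type*} [AddGroup M] {χ : G → M}
    (hχ : ∀ g h, χ (g * h) = χ g + χ h) : χ 1 = 0 := by
  have := hχ 1 1
  rw [_root_.mul_one] at this
  exact left_eq_add.1 this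

theorem chi_inv {G : Type*} [Group G] {M : Type*} [AddGroup M] {χ : G → M}
    (hχ : ∀ g h, χ (g * h) = χ g + χ h) (g : G) : χ g⁻¹ = - χ g := by
  rw [eq_neg_iff_add_eq_zero, ← hχ, inv_mul_cancel, chi_one hχ]

theorem eq_of_cc_eq [ConnectedSpace ↥(pullback (ca Ω i).left (𝟙 A ^ n : A ⟶ A).left)]
    {χ χ' : Tor Ω A n → ZMod n} (hχ : ∀ g h, χ (g * h) = χ g + χ h)
    (hχ' : ∀ g h, χ' (g * h) = χ' g + χ' h) (h0 : cc (gl Ω n i) hχ = cc (gl Ω n i) hχ') (g : Tor Ω A n) :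
    χ g = χ' g := by
  have hs : ∀ g h, (χ - χ') (g * h) = (χ - χ') g + (χ - χ') h := by
    intro g h
    simp only [Pi.sub_apply, hχ, hχ']
    abel
  have hs2 : ∀ g h, (χ - χ' + χ') (g * h) = (χ - χ' + χ') g + (χ - χ' + χ') h := by
    intro g h
    simp only [sub_add_cancel, hχ]
  have h1 := cc_add (gl Ω n i) hs hχ' hs2
  have h2 : cc (gl Ω n i) hs2 = cc (gl Ω n i) hχ := by
    congr 1
    exact sub_add_cancel χ χ'
  rw [h2, h0, right_eq_add] at h1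
  have h3 := eq_zero_of_cc_eq_zero (gl Ω n i) hs h1 g
  exact sub_eq_zero.1 h3

theorem key_of_HC [ConnectedSpace ↥(pullback (ca Ω i).left (𝟙 A ^ n : A ⟶ A).left)]
    (σ τ : Ω ≃ₐ[K] Ω)
    (H : ∀ c : HH (CΩ Ω f).left (EtCoh.const (CΩ Ω f).left (ZMod n)) 1,
      HC (ZMod n) (tw f τ).left 1 (HC (ZMod n) (tw f σ).left 1 c) + c =
        HC (ZMod n) (tw f τ).left 1 c + HC (ZMod n) (tw f σ).left 1 c)
    {χ : Tor Ω A n → ZMod n} (hχ : ∀ g h, χ (g * h) = χ g + χ h) (y : Tor Ω A n) :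
    χ (torHom n σ⁻¹ (torHom n τ⁻¹ y)) + χ y = χ (torHom n τ⁻¹ y) + χ (torHom n σ⁻¹ y) := by
  have hc : ∀ (ρ : Ω ≃ₐ[K] Ω) {χ : Tor Ω A n → ZMod n}, (∀ g h, χ (g * h) = χ g + χ h) →
      ∀ g h, χ (torHom n ρ (g * h)) = χ (torHom n ρ g) + χ (torHom n ρ h) := by
    intro ρ χ h g h'
    rw [map_mul, h]
  have hs : ∀ (χ χ' : Tor Ω A n → ZMod n), (∀ g h, χ (g * h) = χ g + χ h) →
      (∀ g h, χ' (g * h) = χ' g + χ' h) → ∀ g h, (χ + χ') (g * h) = (χ + χ') g + (χ + χ') h := by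
    intro χ χ' h h' g g'
    simp only [Pi.add_apply, h, h']
    abel
  have hσ := hc σ⁻¹ hχ
  have hτ := hc τ⁻¹ hχ
  have hστ : ∀ g h, χ (torHom n σ⁻¹ (torHom n τ⁻¹ (g * h))) =
      χ (torHom n σ⁻¹ (torHom n τ⁻¹ g)) + χ (torHom n σ⁻¹ (torHom n τ⁻¹ h)) := by
    intro g h
    rw [map_mul, hσ]
  have e1 := H (cc (gl Ω n i) hχ)
  rw [HC_gl n i σ hχ hσ, HC_gl n i τ hσ hστ,
    HC_gl n i τ hχ hτ,
    ← cc_add (gl Ω n i) _ _ (hs (fun g => χ (torHom n σ⁻¹ (torHom n τ⁻¹ g))) χ hστ hχ),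
    ← cc_add (gl Ω n i) _ _ (hs (fun g => χ (torHom n τ⁻¹ g)) (fun g => χ (torHom n σ⁻¹ g)) hτ hσ)] at e1
  exact eq_of_cc_eq n i _ _ e1 y

theorem levelTwo_of_HC [NeZero n] [ConnectedSpace ↥(pullback (ca Ω i).left (𝟙 A ^ n : A ⟶ A).left)]
    (σ τ : Ω ≃ₐ[K] Ω)
    (H : ∀ c : HH (CΩ Ω f).left (EtCoh.const (CΩ Ω f).left (ZMod n)) 1,
      HC (ZMod n) (tw f τ).left 1 (HC (ZMod n) (tw f σ).left 1 c) + c =
        HC (ZMod n) (tw f τ).left 1 c + HC (ZMod n) (tw f σ).left 1 c)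
    (x : SGA7.Pts Ω A) (hx : x ^ n = 1) : SGA7.dev σ (SGA7.dev τ x) = 1 := by
  have key : ∀ y : Tor Ω A n,
      torHom n σ⁻¹ (torHom n τ⁻¹ y) * y * (torHom n τ⁻¹ y * torHom n σ⁻¹ y)⁻¹ = 1 := by
    intro y
    refine CharSep.eq_one_of_char n ?_ _ ?_
    · intro g
      exact Subtype.ext ((mem_Tor Ω A n g.1).1 g.2)
    intro χ hχ
    rw [hχ, hχ, chi_inv hχ, hχ, ← sub_eq_add_neg, sub_eq_zero]
    exact key_of_HC n i σ τ H hχ y
  let z : Tor Ω A n := ⟨x, hx⟩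
  have h1 : z * torHom n σ (torHom n τ z) = torHom n τ z * torHom n σ z := by
    have h2 := key (torHom n τ z)
    rw [torHom_inv', mul_inv_eq_one] at h2
    have h3 := congrArg (torHom n σ) h2
    rw [map_mul, map_mul, torHom_inv, torHom_inv] at h3
    rw [h3, _root_.mul_comm]
  have h4 : torHom n σ (torHom n τ z * z⁻¹) * (torHom n τ z * z⁻¹)⁻¹ = 1 := by
    rw [mul_inv_eq_one, map_mul, map_inv, mul_inv_eq_iff_eq_mul, mul_right_comm, ← h1,
      _root_.mul_comm z, mul_inv_cancel_right]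
  exact congrArg Subtype.val h4

end main

end Groth.Agent.Sga7.H731.LevelTwo
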