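import Groth.Agent.Sga7.H731.LevelTwo

/-!
# `levelTwo_of_HC` in terms of `SGA7.cohAct`
-/

set_option autoImplicit false
set_option backward.isDefEq.respectTransparency false
universe u
open CategoryTheory CategoryTheory.Limits AlgebraicGeometry MonObj
open scoped Groth.Agent.Etcore.EtInst

namespace Groth.Agent.Sga7.H731.LevelTwoC

open Groth.Agent.Etcore.HC Groth.Agent.Etcore.EtInst Groth.Agent.Etcore.HpullCalc

variable {K : Type u} [Field K] {Ω : Type u} [Field Ω] [Algebra K Ω]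

theorem cohAct_apply {C : Scheme.{u}} (f : C ⟶ Spec (CommRingCat.of K)) (σ : Ω ≃ₐ[K] Ω) (M : Type)
    [AddCommGroup M] (q : ℕ) (x : EtCoh.H (SGA7.bcField Ω f) (EtCoh.const (SGA7.bcField Ω f) M) q) :
    SGA7.cohAct Ω f σ M q x = HC M (SGA7.twistAut Ω f σ) q x := rfl

theorem end_rel {H : Type*} [AddCommGroup H] (a b : AddMonoid.End H) (h : (a - 1) * (b - 1) = 0) (c : H) :
    a (b c) + c = a c + b c := by
  have e : (a - 1) ((b - 1) c) = 0 := congrArg (fun t : AddMonoid.End H => t c) h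
  have e2 : a (b c - c) - (b c - c) = 0 := e
  rw [map_sub, sub_sub, sub_eq_zero] at e2
  rw [e2]
  abel

/-- addition on `EtCoh.H` and `HH` -/
theorem add_conv {X : Scheme.{u}} (F : EtCoh.Ab X) (n : ℕ) (x y : EtCoh.H X F n) :
    x + y = (HAdd.hAdd (α := HH X F n) (β := HH X F n) x y) := rfl

theorem HC_rel {C : Scheme.{u}} (f : C ⟶ Spec (CommRingCat.of K)) (σ τ : Ω ≃ₐ[K] Ω) (M : Type)
    [AddCommGroup M] (q : ℕ) (H : (SGA7.cohAct Ω f τ M q - 1) * (SGA7.cohAct Ω f σ M q - 1) = 0)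
    (c : HH (SGA7.bcField Ω f) (EtCoh.const (SGA7.bcField Ω f) M) q) :
    HC M (SGA7.twistAut Ω f τ) q (HC M (SGA7.twistAut Ω f σ) q c) + c =
      HC M (SGA7.twistAut Ω f τ) q c + HC M (SGA7.twistAut Ω f σ) q c := by
  have h1 := end_rel _ _ H c
  rw [add_conv, add_conv, cohAct_apply, cohAct_apply, cohAct_apply] at h1
  exact h1

end Groth.Agent.Sga7.H731.LevelTwoC
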